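import Groth.Prelude.Def_LocRes

set_option autoImplicit false

/-! Basic facts on residues of Laurent series: integral differentials, logarithmic differentials. -/

namespace K722.ResBasic

open LaurentSeries HahnSeries

universe u v w

section Ring

variable {R : Type u} [CommRing R]

/-- The residue of a power series vanishes. -/
theorem res_coe (F : PowerSeries R) : LocRes.res R (F : R⸨X⸩) = 0 := by
  rw [LocRes.res_apply, PowerSeries.coeff_coe]
  simp

/-- The residue of an exact differential vanishes. -/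
theorem res_D (f : R⸨X⸩) : LocRes.res R (LocRes.D R f) = 0 := by
  rw [LocRes.res_apply, LocRes.D_coeff]
  simp

/-- The residue of `x dy` for power series `x, y`. -/
theorem res_coe_mul_D_coe (F G : PowerSeries R) :
    LocRes.res R ((F : R⸨X⸩) * LocRes.D R (G : R⸨X⸩)) = 0 := by
  rw [LocRes.D_coe, ← PowerSeries.coe_mul, res_coe]

theorem res_C_mul (c : R) (f : R⸨X⸩) : LocRes.res R (HahnSeries.C c * f) = c * LocRes.res R f := by
  rw [LocRes.res_apply, HahnSeries.C_mul_eq_smul, HahnSeries.coeff_smul, smul_eq_mul,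
    LocRes.res_apply]

theorem D_C (c : R) : LocRes.D R (HahnSeries.C c : R⸨X⸩) = 0 := LocRes.derivative_C R c

theorem D_single (n : ℤ) (r : R) :
    LocRes.D R (single n r : R⸨X⸩) = single (n - 1) (n • r) := by
  have h := LocRes.derivative_single_mul R n r (1 : R⸨X⸩)
  rw [mul_one, mul_one] at h
  rw [LocRes.D_apply, h, show LaurentSeries.derivative R (1 : R⸨X⸩) = 0 from
    (LocRes.D R).map_one_eq_zero, mul_zero, zero_add]

end Ring

section Field

variable {F : Type w} [Field F]

theorem D_zpow (f : F⸨X⸩) (n : ℤ) :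
    LocRes.D F (f ^ n) = n * f ^ (n - 1) * LocRes.D F f := by
  have h := Derivation.leibniz_zpow (LocRes.D F) f n
  rw [h]
  simp only [smul_eq_mul, zsmul_eq_mul]
  ring

/-- In characteristic zero, `f^(n-1) df` has residue `0` for `n ≠ 0`. -/
theorem res_zpow_mul_D_of_charZero [CharZero F] (f : F⸨X⸩) (n : ℤ) (hn : n ≠ 0) :
    LocRes.res F (f ^ (n - 1) * LocRes.D F f) = 0 := by
  have h := res_D (f ^ n)
  rw [D_zpow, mul_assoc] at h
  have h2 : LocRes.res F ((n : F⸨X⸩) * (f ^ (n - 1) * LocRes.D F f)) =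
      (n : F) * LocRes.res F (f ^ (n - 1) * LocRes.D F f) := by
    rw [← res_C_mul]
    simp
  rw [h2] at h
  rcases mul_eq_zero.1 h with h3 | h3
  · exact absurd (by exact_mod_cast h3) hn
  · exact h3

end Field

section Map

variable {R : Type u} [CommRing R] {S : Type v} [CommRing S]

/-- The map on Laurent series induced by a ring homomorphism on coefficients. -/
noncomputable def mapL (f : R →+* S) : R⸨X⸩ →+* S⸨X⸩ where
  toFun x := x.map f
  map_one' := HahnSeries.map_one f.toMonoidWithZeroHom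
  map_zero' := by ext; simp
  map_mul' x y := HahnSeries.map_mul (f : R →ₙ+* S)
  map_add' x y := by ext; simp

@[simp] theorem mapL_coeff (f : R →+* S) (x : R⸨X⸩) (n : ℤ) :
    (mapL f x).coeff n = f (x.coeff n) := rfl

theorem mapL_D (f : R →+* S) (x : R⸨X⸩) : mapL f (LocRes.D R x) = LocRes.D S (mapL f x) := by
  ext n
  rw [mapL_coeff, LocRes.D_coeff, LocRes.D_coeff, mapL_coeff, map_zsmul]

theorem mapL_res (f : R →+* S) (x : R⸨X⸩) : LocRes.res S (mapL f x) = f (LocRes.res R x) := rfl

theorem mapL_coe (f : R →+* S) (x : PowerSeries R) :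
    mapL f (x : R⸨X⸩) = ((PowerSeries.map f x : PowerSeries S) : S⸨X⸩) := by
  ext n
  rw [mapL_coeff, PowerSeries.coeff_coe, PowerSeries.coeff_coe]
  split_ifs <;> simp

theorem mapL_single (f : R →+* S) (n : ℤ) (r : R) : mapL f (single n r) = single n (f r) := by
  ext m
  rw [mapL_coeff]
  by_cases h : m = n
  · subst h; simp
  · rw [HahnSeries.coeff_single_of_ne h, HahnSeries.coeff_single_of_ne h, map_zero]

theorem mapL_injective (f : R →+* S) (hf : Function.Injective f) : Function.Injective (mapL f) := by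
  intro x y h
  ext n
  exact hf (by rw [← mapL_coeff, ← mapL_coeff, h])

end Map

section Lift

variable {F : Type w} [Field F]

/-- For a unit `f` of Laurent series over a domain of characteristic zero. -/
theorem res_unit_zpow_mul_D {A : Type v} [CommRing A] [IsDomain A] [CharZero A] (f : A⸨X⸩ˣ) (n : ℤ)
    (hn : n ≠ 0) :
    LocRes.res A (((f ^ (n - 1) : A⸨X⸩ˣ) : A⸨X⸩) * LocRes.D A (f : A⸨X⸩)) = 0 := by
  have hj : Function.Injective (algebraMap A (FractionRing A)) := IsFractionRing.injective A _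
  have : CharZero (FractionRing A) := charZero_of_injective_algebraMap hj
  apply hj
  rw [← mapL_res, map_mul, mapL_D, map_zero]
  have h1 : mapL (algebraMap A (FractionRing A)) ((f ^ (n - 1) : A⸨X⸩ˣ) : A⸨X⸩) =
      (mapL (algebraMap A (FractionRing A)) (f : A⸨X⸩)) ^ (n - 1) := by
    have h2 := map_zpow (Units.map ((mapL (algebraMap A (FractionRing A))).toMonoidHom)) f (n - 1)
    have h3 := congrArg (Units.val) h2
    rw [Units.val_zpow_eq_zpow_val] at h3
    exact h3
  rw [h1]
  exact res_zpow_mul_D_of_charZero _ n hn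

theorem exists_lift (f : F⸨X⸩) (hf : f ≠ 0) :
    ∃ (c : F) (_ : c ≠ 0) (U : (MvPolynomial F ℤ)⸨X⸩ˣ),
      f = HahnSeries.C c * mapL (MvPolynomial.aeval (R := ℤ) (id : F → F)).toRingHom
        (U : (MvPolynomial F ℤ)⸨X⸩) := by
  classical
  set π : MvPolynomial F ℤ →+* F := (MvPolynomial.aeval (R := ℤ) (id : F → F)).toRingHom with hπ
  have hπX : ∀ a : F, π (MvPolynomial.X a) = a := fun a => by simp [hπ]
  set c : F := f.coeff f.order with hc
  have hc0 : c ≠ 0 := by
    rw [hc]
    exact HahnSeries.coeff_order_eq_zero.not.2 hf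
  set U : PowerSeries (MvPolynomial F ℤ) := PowerSeries.mk fun n =>
    if n = 0 then 1 else MvPolynomial.X (c⁻¹ * f.coeff (f.order + n)) with hU
  have hUu : IsUnit U := by
    rw [PowerSeries.isUnit_iff_constantCoeff]
    simp [hU]
  have hsu : IsUnit (single f.order (1 : MvPolynomial F ℤ) : (MvPolynomial F ℤ)⸨X⸩) := by
    refine IsUnit.of_mul_eq_one (single (-f.order) 1) ?_
    rw [HahnSeries.single_mul_single]
    simp
  have hUl : IsUnit (U : (MvPolynomial F ℤ)⸨X⸩) :=
    hUu.map (HahnSeries.ofPowerSeries ℤ (MvPolynomial F ℤ))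
  refine ⟨c, hc0, (hsu.mul hUl).unit, ?_⟩
  rw [IsUnit.unit_spec, map_mul, mapL_single, mapL_coe, map_one, HahnSeries.C_mul_eq_smul]
  ext n
  rw [HahnSeries.coeff_smul, HahnSeries.coeff_single_mul, one_mul, smul_eq_mul,
    PowerSeries.coeff_coe]
  split_ifs with h
  · rw [mul_zero]
    exact HahnSeries.coeff_eq_zero_of_lt_order (by omega)
  · push Not at h
    obtain ⟨m, hm⟩ := Int.eq_ofNat_of_zero_le h
    rw [hm, Int.natAbs_natCast, PowerSeries.coeff_map, hU, PowerSeries.coeff_mk]
    have hn : n = f.order + m := by omega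
    split_ifs with h0
    · subst h0
      rw [map_one, mul_one, hc, hn]
      simp
    · rw [hπX, hn, ← mul_assoc, mul_inv_cancel₀ hc0, one_mul]

/-- `f^(n-1) df` has residue `0` for `n ≠ 0`, in every characteristic. -/
theorem res_zpow_mul_D (f : F⸨X⸩) (n : ℤ) (hn : n ≠ 0) :
    LocRes.res F (f ^ (n - 1) * LocRes.D F f) = 0 := by
  rcases eq_or_ne f 0 with rfl | hf
  · rw [map_zero, mul_zero, map_zero]
  · obtain ⟨c, hc, U, hU⟩ := exists_lift f hf
    set π : MvPolynomial F ℤ →+* F := (MvPolynomial.aeval (R := ℤ) (id : F → F)).toRingHom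
    have h1 := congrArg π (res_unit_zpow_mul_D U n hn)
    have h2 : mapL π ((U ^ (n - 1) : (MvPolynomial F ℤ)⸨X⸩ˣ) : (MvPolynomial F ℤ)⸨X⸩) =
        (mapL π (U : (MvPolynomial F ℤ)⸨X⸩)) ^ (n - 1) := by
      have h2 := map_zpow (Units.map ((mapL π).toMonoidHom)) U (n - 1)
      have h3 := congrArg (Units.val) h2
      rw [Units.val_zpow_eq_zpow_val] at h3
      exact h3
    rw [← mapL_res, map_mul, mapL_D, h2, map_zero] at h1
    have hC : (HahnSeries.C c : F⸨X⸩) ^ (n - 1) = HahnSeries.C (c ^ (n - 1)) :=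
      (map_zpow₀ (HahnSeries.C : F →+* F⸨X⸩) c (n - 1)).symm
    rw [hU, mul_zpow, hC, Derivation.leibniz, D_C, smul_zero, add_zero, smul_eq_mul]
    rw [show (HahnSeries.C (c ^ (n - 1)) : F⸨X⸩) * mapL π (U : (MvPolynomial F ℤ)⸨X⸩) ^ (n - 1) *
        (HahnSeries.C c * LocRes.D F (mapL π (U : (MvPolynomial F ℤ)⸨X⸩))) =
        HahnSeries.C (c ^ (n - 1) * c) * (mapL π (U : (MvPolynomial F ℤ)⸨X⸩) ^ (n - 1) *
          LocRes.D F (mapL π (U : (MvPolynomial F ℤ)⸨X⸩))) by rw [map_mul]; ring]
    rw [res_C_mul, h1, mul_zero]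

/-- The residue of a logarithmic differential is the order. -/
theorem res_inv_mul_D (f : F⸨X⸩) (hf : f ≠ 0) :
    LocRes.res F (f⁻¹ * LocRes.D F f) = (f.order : F) := by
  have h1 := f.single_order_mul_powerSeriesPart
  set G := f.powerSeriesPart with hG
  have hG0 : (G : F⸨X⸩) ≠ 0 := by
    intro h
    rw [h, mul_zero] at h1
    exact hf h1.symm
  have hGu : IsUnit G := by
    rw [PowerSeries.isUnit_iff_constantCoeff, ← PowerSeries.coeff_zero_eq_constantCoeff_apply, hG,
      LaurentSeries.powerSeriesPart_coeff, isUnit_iff_ne_zero]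
    simp only [Nat.cast_zero, add_zero]
    exact HahnSeries.coeff_order_eq_zero.not.2 hf
  obtain ⟨G', hG'⟩ := hGu.exists_right_inv
  have hGinv : (G : F⸨X⸩)⁻¹ = (G' : F⸨X⸩) := by
    apply inv_eq_of_mul_eq_one_left
    rw [mul_comm, ← PowerSeries.coe_mul, hG', PowerSeries.coe_one]
  have hs0 : (single f.order (1 : F) : F⸨X⸩) ≠ 0 := by simp
  have e1 : f⁻¹ * LocRes.D F f =
      (single f.order (1 : F) : F⸨X⸩)⁻¹ * LocRes.D F (single f.order (1 : F)) +
        (G : F⸨X⸩)⁻¹ * LocRes.D F (G : F⸨X⸩) := by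
    conv_lhs => rw [← h1]
    rw [Derivation.leibniz, mul_inv, smul_eq_mul, smul_eq_mul]
    field_simp
    ring
  rw [e1, map_add, hGinv, res_coe_mul_D_coe, add_zero, D_single]
  have h2 : (single f.order (1 : F) : F⸨X⸩)⁻¹ = single (-f.order) 1 := by
    apply inv_eq_of_mul_eq_one_left
    rw [HahnSeries.single_mul_single]
    simp
  rw [h2, HahnSeries.single_mul_single, LocRes.res_apply, one_mul]
  rw [show -f.order + (f.order - 1) = -1 by ring, HahnSeries.coeff_single_same]
  simp

end Lift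

end K722.ResBasic
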