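import Groth.Agent.LocRes.K722.TraceRes

set_option autoImplicit false

/-! The chain rule for extensions of Laurent series fields, and the local trace formula in its
general form. -/

namespace K722.LocExt

open LaurentSeries HahnSeries WithZero

universe u v

variable {K : Type u} {L : Type v} [Field K] [Field L] [Algebra K L] [Algebra K⸨X⸩ L⸨X⸩]
  {e : ℕ} (h : IsLocExt K L e)

/-- The defect of the chain rule. -/
noncomputable def dl (K : Type u) {L : Type v} [Field K] [Field L] [Algebra K⸨X⸩ L⸨X⸩]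
    (x : K⸨X⸩) : L⸨X⸩ :=
  LocRes.D L (algebraMap K⸨X⸩ L⸨X⸩ x) - algebraMap K⸨X⸩ L⸨X⸩ (LocRes.D K x) *
    LocRes.D L (algebraMap K⸨X⸩ L⸨X⸩ ((PowerSeries.X : PowerSeries K) : K⸨X⸩))

omit [Algebra K L] in
theorem dl_mul (x y : K⸨X⸩) : dl (L := L) K (x * y) =
    algebraMap K⸨X⸩ L⸨X⸩ x * dl K y + algebraMap K⸨X⸩ L⸨X⸩ y * dl K x := by
  simp only [dl, map_mul, Derivation.leibniz, smul_eq_mul, map_add]
  ring

omit [Algebra K L] in
theorem dl_add (x y : K⸨X⸩) : dl (L := L) K (x + y) = dl K x + dl K y := by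
  simp only [dl, map_add]
  ring

omit [Algebra K L] in
theorem dl_X : dl (L := L) K ((PowerSeries.X : PowerSeries K) : K⸨X⸩) = 0 := by
  rw [dl, LocRes.D_coe, PowerSeries.derivative_X, PowerSeries.coe_one, map_one, one_mul, sub_self]

include h

theorem dl_C (a : K) : dl (L := L) K (HahnSeries.C a) = 0 := by
  rw [dl, h.map_C, K722.ResBasic.D_C, K722.ResBasic.D_C, map_zero, zero_mul, sub_self]

theorem dl_coe (F : PowerSeries K) : dl (L := L) K (F : K⸨X⸩) =
    ((PowerSeries.derivative L (iP K L F) - iP K L (PowerSeries.derivative K F) *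
      PowerSeries.derivative L (iP K L PowerSeries.X) : PowerSeries L) : L⸨X⸩) := by
  rw [dl, LocRes.D_coe, ← coe_iP h, ← coe_iP h, ← coe_iP h, LocRes.D_coe, LocRes.D_coe,
    PowerSeries.coe_sub, PowerSeries.coe_mul]

theorem dl_coe_eq_zero (F : PowerSeries K) : dl (L := L) K (F : K⸨X⸩) = 0 := by
  have key : ∀ (N : ℕ) (F : PowerSeries K), iP K L PowerSeries.X ^ N ∣
      (PowerSeries.derivative L (iP K L F) - iP K L (PowerSeries.derivative K F) *
      PowerSeries.derivative L (iP K L PowerSeries.X) : PowerSeries L) := by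
    intro N
    induction N with
    | zero => intro F; rw [pow_zero]; exact one_dvd _
    | succ N ih =>
      intro F
      obtain ⟨w, hw⟩ := ih (PowerSeries.mk fun p => PowerSeries.coeff (p + 1) F)
      refine ⟨w, ?_⟩
      apply coe_inj
      rw [← dl_coe h]
      conv_lhs => rw [PowerSeries.eq_X_mul_shift_add_const F]
      rw [PowerSeries.coe_add, PowerSeries.coe_mul, PowerSeries.coe_C, dl_add, dl_mul, dl_X,
        mul_zero, add_zero, dl_C h, add_zero, dl_coe h, hw, algebraMap_X h, ← PowerSeries.coe_mul,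
        pow_succ', mul_assoc]
  rw [dl_coe h, eq_zero_of_forall_dvd h _ (fun N => key N F), PowerSeries.coe_zero]

theorem dl_eq_zero (x : K⸨X⸩) : dl (L := L) K x = 0 := by
  obtain ⟨N, hN⟩ := exists_clear x
  obtain ⟨F, hF⟩ := hN N le_rfl
  have h1 : dl (L := L) K (((PowerSeries.X : PowerSeries K) : K⸨X⸩) ^ N) = 0 := by
    rw [← PowerSeries.coe_pow]; exact dl_coe_eq_zero h _
  have h2 := dl_coe_eq_zero h F
  rw [← hF, dl_mul, h1, mul_zero, add_zero] at h2
  rcases mul_eq_zero.1 h2 with h3 | h3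
  · rw [map_eq_zero] at h3
    exact absurd h3 (pow_ne_zero _ X_ne_zero')
  · exact h3

/-- The chain rule. -/
theorem D_algebraMap (x : K⸨X⸩) : LocRes.D L (algebraMap K⸨X⸩ L⸨X⸩ x) =
    algebraMap K⸨X⸩ L⸨X⸩ (LocRes.D K x) *
      LocRes.D L (algebraMap K⸨X⸩ L⸨X⸩ ((PowerSeries.X : PowerSeries K) : K⸨X⸩)) :=
  sub_eq_zero.1 (dl_eq_zero h x)

/-- **The local trace formula** for residues:
`tr_{L/K} res (y dx) = res (Tr_{L((X))/K((X))} (y) dx)` for `x ∈ K((X))`, `y ∈ L((X))`. -/
theorem trace_res_mul_D [FiniteDimensional K L] (y : L⸨X⸩) (x : K⸨X⸩) :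
    Algebra.trace K L (LocRes.res L (y * LocRes.D L (algebraMap K⸨X⸩ L⸨X⸩ x))) =
    LocRes.res K (Algebra.trace K⸨X⸩ L⸨X⸩ y * LocRes.D K x) := by
  have := finiteDimensional h
  rw [D_algebraMap h, ← mul_assoc, trace_res h]
  congr 1
  rw [mul_comm y, ← Algebra.smul_def, map_smul, smul_eq_mul, mul_comm]

end K722.LocExt
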