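import Groth.Agent.LocRes.K722.Surj

set_option autoImplicit false

/-! Expansions at compatible places of an extension of complete fields. -/

namespace K722.LocExt

open LaurentSeries HahnSeries WithZero

universe u v w

/-- A ring homomorphism between fields of Laurent series which is compatible with the valuations up
to equivalence and the constants is an extension of Laurent series fields. -/
theorem isLocExt_of_equiv {K : Type u} {L : Type v} [Field K] [Field L] [Algebra K L]
    [Algebra K⸨X⸩ L⸨X⸩]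
    (hC : ∀ a : K, algebraMap K⸨X⸩ L⸨X⸩ (HahnSeries.C a) = HahnSeries.C (algebraMap K L a))
    (hv : ∀ f : K⸨X⸩, Valued.v f ≤ (1 : WithZero (Multiplicative ℤ)) ↔
      Valued.v (algebraMap K⸨X⸩ L⸨X⸩ f) ≤ (1 : WithZero (Multiplicative ℤ))) :
    ∃ e : ℕ, IsLocExt K L e := by
  set X₀ : K⸨X⸩ := ((PowerSeries.X : PowerSeries K) : K⸨X⸩) with hX₀
  have hX0 : X₀ ≠ 0 := X_ne_zero'
  have hvX : Valued.v X₀ = (exp (-1) : WithZero (Multiplicative ℤ)) := by
    have h1 := LaurentSeries.valuation_X_pow K 1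
    rw [pow_one] at h1
    exact h1
  have hι0 : algebraMap K⸨X⸩ L⸨X⸩ X₀ ≠ 0 := by rwa [map_ne_zero]
  -- the valuation of the image of `X` is less than one
  have hlt : Valued.v (algebraMap K⸨X⸩ L⸨X⸩ X₀) < (1 : WithZero (Multiplicative ℤ)) := by
    by_contra hcon
    push Not at hcon
    have h1 : Valued.v (algebraMap K⸨X⸩ L⸨X⸩ X₀⁻¹) ≤ (1 : WithZero (Multiplicative ℤ)) := by
      rw [map_inv₀, map_inv₀]
      exact inv_le_one_of_one_le₀ hcon
    rw [← hv, map_inv₀, hvX, ← WithZero.exp_neg, ← WithZero.exp_zero, WithZero.exp_le_exp] at h1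
    omega
  have hvne : (Valued.v (algebraMap K⸨X⸩ L⸨X⸩ X₀) : WithZero (Multiplicative ℤ)) ≠ 0 :=
    (Valuation.ne_zero_iff _).2 hι0
  obtain ⟨m, hm⟩ : ∃ m : ℤ, Valued.v (algebraMap K⸨X⸩ L⸨X⸩ X₀) =
      (exp m : WithZero (Multiplicative ℤ)) := ⟨_, (WithZero.exp_log hvne).symm⟩
  have hmneg : m < 0 := by
    rw [hm, ← WithZero.exp_zero, WithZero.exp_lt_exp] at hlt
    exact hlt
  have hone : ∀ f : K⸨X⸩, Valued.v f = (1 : WithZero (Multiplicative ℤ)) →
      Valued.v (algebraMap K⸨X⸩ L⸨X⸩ f) = (1 : WithZero (Multiplicative ℤ)) := by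
    intro f hf
    apply le_antisymm ((hv f).1 hf.le)
    have h1 : Valued.v f⁻¹ ≤ (1 : WithZero (Multiplicative ℤ)) := by rw [map_inv₀, hf, inv_one]
    have h2 := (hv f⁻¹).1 h1
    rw [map_inv₀, map_inv₀] at h2
    have hf0 : f ≠ 0 := by
      rintro rfl
      rw [map_zero] at hf
      exact zero_ne_one hf
    have h3 : (0 : WithZero (Multiplicative ℤ)) < Valued.v (algebraMap K⸨X⸩ L⸨X⸩ f) := by
      rw [zero_lt_iff, Valuation.ne_zero_iff]
      rwa [map_ne_zero]
    exact (inv_le_one₀ h3).1 h2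
  refine ⟨(-m).toNat, by omega, hC, fun f => ?_⟩
  rcases eq_or_ne f 0 with rfl | hf
  · rw [map_zero, map_zero, map_zero, zero_pow (by omega)]
  · have h1 : Valued.v (f * X₀ ^ (-f.order)) = (1 : WithZero (Multiplicative ℤ)) := by
      rw [map_mul, map_zpow₀, hvX, K722.ResVal.v_eq f hf, ← WithZero.exp_zsmul,
        ← WithZero.exp_add, ← WithZero.exp_zero, WithZero.exp_inj]
      simp
    have h2 := hone _ h1
    rw [map_mul, map_mul, map_zpow₀, map_zpow₀, hm, ← WithZero.exp_zsmul] at h2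
    rw [K722.ResVal.v_eq f hf, ← WithZero.exp_nsmul]
    have h3 : (exp (-f.order • m) : WithZero (Multiplicative ℤ)) ≠ 0 := WithZero.exp_ne_zero
    rw [eq_comm, ← div_eq_iff h3, one_div, ← WithZero.exp_neg] at h2
    rw [← h2, WithZero.exp_inj]
    have : (((-m).toNat : ℕ) : ℤ) = -m := Int.toNat_of_nonneg (by omega)
    rw [smul_eq_mul, nsmul_eq_mul, this]
    ring

/-- The trace formula for the residues of expansions of complete fields. -/
theorem trace_resExp {K : Type u} {L : Type v} {F E : Type w} [Field K] [Field L]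
    [Field F] [Field E] [Algebra K F] [Algebra F E] [Algebra K E] [IsScalarTower K F E]
    [Algebra K L] [Algebra L E] [IsScalarTower K L E] [FiniteDimensional K L]
    (v : Valuation F (WithZero (Multiplicative ℤ))) (w : Valuation E (WithZero (Multiplicative ℤ)))
    [v.HasExtension w]
    (φ : F →ₐ[K] LaurentSeries K) (hφ : LocRes.IsExpansionAt v φ) (hφs : Function.Surjective φ)
    (ψ : E →ₐ[L] LaurentSeries L) (hψ : LocRes.IsExpansionAt w ψ)
    (x : F) (y : E) :
    Algebra.trace K L (LocRes.resExp ψ y (algebraMap F E x)) =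
      LocRes.resExp φ (Algebra.trace F E y) x := by
  let eφ : F ≃ₐ[K] LaurentSeries K := AlgEquiv.ofBijective φ ⟨φ.toRingHom.injective, hφs⟩
  have heφ : ∀ z, eφ z = φ z := fun z => rfl
  let algKL : Algebra K⸨X⸩ L⸨X⸩ :=
    ((ψ.toRingHom.comp (algebraMap F E)).comp (eφ.symm : LaurentSeries K →+* F)).toAlgebra
  have hι : ∀ z : K⸨X⸩, algebraMap K⸨X⸩ L⸨X⸩ z = ψ (algebraMap F E (eφ.symm z)) := fun z => rfl
  have hιφ : ∀ z : F, algebraMap K⸨X⸩ L⸨X⸩ (φ z) = ψ (algebraMap F E z) := fun z => by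
    rw [hι, ← heφ, eφ.symm_apply_apply]
  obtain ⟨e, he⟩ : ∃ e : ℕ, IsLocExt K L e := by
    apply isLocExt_of_equiv
    · intro a
      have h1 : (HahnSeries.C a : K⸨X⸩) = φ (algebraMap K F a) := by
        rw [LocRes.map_algebraMap]; rfl
      rw [h1, hιφ, ← IsScalarTower.algebraMap_apply K F E, IsScalarTower.algebraMap_apply K L E,
        LocRes.map_algebraMap]
      rfl
    · intro f
      obtain ⟨z, rfl⟩ := hφs f
      rw [hιφ, hφ.1, hψ.1]
      have h2 := Valuation.HasExtension.val_isEquiv_comap (vR := v) (vA := w)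
      have h3 := h2.le_one_iff_le_one (x := z)
      exact h3
  -- surjectivity of `ψ`
  have hψs : Function.Surjective ψ := by
    obtain ⟨t, ht⟩ := hψ.2.2
    obtain ⟨ϖ, hϖ⟩ := K722.ResVal.exists_coe_of_v_le_one (ψ t) (by
      rw [hψ.1, ht, ← WithZero.exp_zero, WithZero.exp_le_exp]; omega)
    have hne : (ϖ : L⸨X⸩) ≠ 0 := by
      rw [hϖ, map_ne_zero]
      rintro rfl
      rw [map_zero] at ht
      exact WithZero.exp_ne_zero ht.symm
    have hord : (ϖ : L⸨X⸩).order = 1 := by
      have h1 := K722.ResVal.v_eq _ hne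
      rw [hϖ, hψ.1, ht, WithZero.exp_inj] at h1
      rw [hϖ]
      omega
    have hdvd : (PowerSeries.X : PowerSeries L) ∣ ϖ := by
      rw [PowerSeries.X_dvd_iff, ← PowerSeries.coeff_zero_eq_constantCoeff_apply,
        ← coeff_coe_nat]
      exact HahnSeries.coeff_eq_zero_of_lt_order (by rw [hord]; norm_num)
    obtain ⟨c, hc⟩ := hdvd
    have hcu : IsUnit c := by
      rw [PowerSeries.isUnit_iff_constantCoeff, isUnit_iff_ne_zero]
      intro h0
      have h1 : PowerSeries.coeff 1 ϖ = 0 := by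
        rw [hc, show (1 : ℕ) = 0 + 1 from rfl, PowerSeries.coeff_succ_X_mul,
          PowerSeries.coeff_zero_eq_constantCoeff_apply]
        exact h0
      rw [← coeff_coe_nat] at h1
      have h2 := HahnSeries.coeff_order_eq_zero.not.2 hne
      rw [hord] at h2
      exact h2 h1
    let M : Submodule K⸨X⸩ L⸨X⸩ :=
      { carrier := Set.range ψ
        add_mem' := by
          rintro _ _ ⟨a, rfl⟩ ⟨b, rfl⟩
          exact ⟨a + b, map_add _ _ _⟩
        zero_mem' := ⟨0, map_zero _⟩
        smul_mem' := by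
          rintro z _ ⟨a, rfl⟩
          exact ⟨algebraMap F E (eφ.symm z) * a, by rw [map_mul, Algebra.smul_def, hι]⟩ }
    have htop : M = ⊤ := by
      refine eq_top he M (fun a => ⟨algebraMap L E a, ?_⟩) ϖ c hcu hc ?_
      · rw [LocRes.map_algebraMap]; rfl
      · rintro _ ⟨a, rfl⟩
        exact ⟨t * a, by rw [map_mul, hϖ]⟩
    intro z
    have : z ∈ M := by rw [htop]; trivial
    exact this
  let eψ : E ≃+* LaurentSeries L := RingEquiv.ofBijective ψ.toRingHom ⟨ψ.toRingHom.injective, hψs⟩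
  have htr : φ (Algebra.trace F E y) = Algebra.trace K⸨X⸩ L⸨X⸩ (ψ y) := by
    have h1 := Algebra.trace_eq_of_equiv_equiv (eφ : F ≃+* LaurentSeries K) eψ (by
      refine RingHom.ext fun z => ?_
      exact hιφ z) y
    rw [h1]
    exact eφ.apply_symm_apply _
  rw [LocRes.resExp, LocRes.resExp, htr, ← hιφ]
  exact trace_res_mul_D he (ψ y) (φ x)

end K722.LocExt
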