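import Groth.Agent.LocRes.K722.Val
import Mathlib.RingTheory.PowerSeries.Trunc
import Mathlib.LinearAlgebra.Basis.Basic
import Mathlib.RingTheory.PowerSeries.Inverse

set_option autoImplicit false

/-! Extensions `K((X)) → L((X))` of fields of Laurent series, with `L` finite over `K`: an explicit
basis. -/

namespace K722.LocExt

open LaurentSeries HahnSeries WithZero

universe u v

section Coe

variable {R : Type u} [CommRing R]

theorem coe_inj {F G : PowerSeries R} (h : (F : R⸨X⸩) = (G : R⸨X⸩)) : F = G :=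
  HahnSeries.ofPowerSeries_injective h

theorem coeff_coe_nat (F : PowerSeries R) (n : ℕ) : (F : R⸨X⸩).coeff (n : ℤ) = PowerSeries.coeff n F :=
  LaurentSeries.coeff_coe_powerSeries F n

end Coe

variable (K : Type u) (L : Type v) [Field K] [Field L] [Algebra K L] [Algebra K⸨X⸩ L⸨X⸩]

/-- `K((X)) → L((X))` is an extension of Laurent series fields over `K → L`, of ramification
index `e > 0` (`v (ι f) = v (f) ^ e`). -/
structure IsLocExt (e : ℕ) : Prop where
  pos : 0 < e
  map_C : ∀ a : K, algebraMap K⸨X⸩ L⸨X⸩ (HahnSeries.C a) = HahnSeries.C (algebraMap K L a)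
  map_v : ∀ f : K⸨X⸩, Valued.v (algebraMap K⸨X⸩ L⸨X⸩ f) =
    (Valued.v f : WithZero (Multiplicative ℤ)) ^ e

/-- The induced map on power series. -/
noncomputable def iP (F : PowerSeries K) : PowerSeries L :=
  PowerSeries.mk fun n => (algebraMap K⸨X⸩ L⸨X⸩ (F : K⸨X⸩)).coeff n

variable {K L} {e : ℕ} (h : IsLocExt K L e)

include h

theorem coe_iP (F : PowerSeries K) : ((iP K L F : PowerSeries L) : L⸨X⸩) =
    algebraMap K⸨X⸩ L⸨X⸩ (F : K⸨X⸩) := by
  obtain ⟨G, hG⟩ := K722.ResVal.exists_coe_of_v_le_one (algebraMap K⸨X⸩ L⸨X⸩ (F : K⸨X⸩)) (by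
    rw [h.map_v]
    exact pow_le_one₀ zero_le ((LaurentSeries.val_le_one_iff_eq_coe K _).2 ⟨F, rfl⟩))
  rw [← hG]
  congr 1
  ext n
  rw [iP, PowerSeries.coeff_mk, ← hG, coeff_coe_nat]

theorem iP_add (F G : PowerSeries K) : iP K L (F + G) = iP K L F + iP K L G := by
  apply coe_inj
  rw [coe_iP h, PowerSeries.coe_add, map_add, PowerSeries.coe_add, coe_iP h, coe_iP h]

theorem iP_mul (F G : PowerSeries K) : iP K L (F * G) = iP K L F * iP K L G := by
  apply coe_inj
  rw [coe_iP h, PowerSeries.coe_mul, map_mul, PowerSeries.coe_mul, coe_iP h, coe_iP h]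

theorem iP_C (a : K) : iP K L (PowerSeries.C a) = PowerSeries.C (algebraMap K L a) := by
  apply coe_inj
  rw [coe_iP h, PowerSeries.coe_C, h.map_C, PowerSeries.coe_C]

theorem iP_zero : iP K L (0 : PowerSeries K) = 0 := by
  apply coe_inj
  rw [coe_iP h, PowerSeries.coe_zero, map_zero, PowerSeries.coe_zero]

theorem iP_one : iP K L (1 : PowerSeries K) = 1 := by
  apply coe_inj
  rw [coe_iP h, PowerSeries.coe_one, map_one, PowerSeries.coe_one]

theorem iP_pow (F : PowerSeries K) (n : ℕ) : iP K L (F ^ n) = iP K L F ^ n := by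
  induction n with
  | zero => rw [pow_zero, pow_zero, iP_one h]
  | succ n ih => rw [pow_succ, pow_succ, iP_mul h, ih]

theorem exists_iP_X : ∃ w : PowerSeries L, IsUnit w ∧
    iP K L PowerSeries.X = PowerSeries.X ^ e * w := by
  have hv : Valued.v ((iP K L PowerSeries.X : PowerSeries L) : L⸨X⸩) =
      (exp (-(e : ℤ)) : WithZero (Multiplicative ℤ)) := by
    rw [coe_iP h, h.map_v]
    have h1 := LaurentSeries.valuation_X_pow K 1
    rw [pow_one] at h1
    rw [h1, ← WithZero.exp_nsmul]
    simp
  have hne : ((iP K L PowerSeries.X : PowerSeries L) : L⸨X⸩) ≠ 0 := by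
    intro h0
    rw [h0, map_zero] at hv
    exact WithZero.exp_ne_zero hv.symm
  have hord : ((iP K L PowerSeries.X : PowerSeries L) : L⸨X⸩).order = e := by
    rw [K722.ResVal.v_eq _ hne, WithZero.exp_inj] at hv
    omega
  have hdvd : (PowerSeries.X : PowerSeries L) ^ e ∣ iP K L PowerSeries.X := by
    rw [PowerSeries.X_pow_dvd_iff]
    intro m hm
    rw [← coeff_coe_nat]
    exact HahnSeries.coeff_eq_zero_of_lt_order (by rw [hord]; exact_mod_cast hm)
  obtain ⟨w, hw⟩ := hdvd
  refine ⟨w, ?_, hw⟩
  rw [PowerSeries.isUnit_iff_constantCoeff, isUnit_iff_ne_zero]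
  intro h0
  have h1 : PowerSeries.coeff e (iP K L PowerSeries.X) = 0 := by
    rw [hw, PowerSeries.coeff_X_pow_mul', if_pos le_rfl, Nat.sub_self]
    rw [PowerSeries.coeff_zero_eq_constantCoeff_apply, h0]
  rw [← coeff_coe_nat, ← hord] at h1
  exact HahnSeries.coeff_order_eq_zero.not.2 hne h1

theorem dvd_iff (N : ℕ) (z : PowerSeries L) :
    iP K L PowerSeries.X ^ N ∣ z ↔ PowerSeries.X ^ (e * N) ∣ z := by
  obtain ⟨w, hw, hX⟩ := exists_iP_X h
  rw [hX, mul_pow, ← pow_mul]
  exact (hw.pow N).mul_right_dvd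

theorem eq_zero_of_forall_dvd (z : PowerSeries L) (hz : ∀ N : ℕ, iP K L PowerSeries.X ^ N ∣ z) :
    z = 0 := by
  ext n
  have h1 := (dvd_iff h (n + 1) z).1 (hz (n + 1))
  rw [PowerSeries.X_pow_dvd_iff] at h1
  rw [map_zero]
  refine h1 n ?_
  have := h.pos
  nlinarith

section Basis

variable {J : Type*} [Fintype J] (ω : Module.Basis J K L)

/-- The elements `ω_j X ^ i`. -/
noncomputable def bas (ω : Module.Basis J K L) (s : J × Fin e) : PowerSeries L :=
  PowerSeries.C (ω s.1) * PowerSeries.X ^ (s.2 : ℕ)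

/-- One step of the expansion. -/
theorem exists_step (z : PowerSeries L) : ∃ (k : J × Fin e → K) (z' : PowerSeries L),
    z = ∑ s, PowerSeries.C (algebraMap K L (k s)) * bas (e := e) ω s +
      iP K L PowerSeries.X * z' := by
  obtain ⟨w, hw, hX⟩ := exists_iP_X h
  obtain ⟨w', hw'⟩ := hw.exists_right_inv
  refine ⟨fun s => ω.repr (PowerSeries.coeff (s.2 : ℕ) z) s.1,
    w' * (PowerSeries.mk fun i => PowerSeries.coeff (i + e) z), ?_⟩
  conv_lhs => rw [PowerSeries.eq_X_pow_mul_shift_add_trunc e z]
  rw [hX, add_comm]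
  congr 1
  · rw [Fintype.sum_prod_type_right]
    ext n
    rw [map_sum, Polynomial.coeff_coe, PowerSeries.coeff_trunc]
    have h1 : ∀ i : Fin e, PowerSeries.coeff n (∑ j : J,
        PowerSeries.C (algebraMap K L (ω.repr (PowerSeries.coeff (i : ℕ) z) j)) *
          bas (e := e) ω (j, i)) = if n = i then PowerSeries.coeff (i : ℕ) z else 0 := by
      intro i
      rw [map_sum]
      have h2 : ∀ j : J, PowerSeries.coeff n
          (PowerSeries.C (algebraMap K L (ω.repr (PowerSeries.coeff (i : ℕ) z) j)) *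
          bas (e := e) ω (j, i)) =
          if n = i then (ω.repr (PowerSeries.coeff (i : ℕ) z) j) • ω j else 0 := by
        intro j
        rw [bas, PowerSeries.coeff_C_mul, PowerSeries.coeff_C_mul, PowerSeries.coeff_X_pow]
        split_ifs with h3
        · rw [mul_one, Algebra.smul_def]
        · rw [mul_zero, mul_zero]
      simp only [h2]
      split_ifs with h3
      · exact ω.sum_repr _
      · simp
    simp only [h1]
    split_ifs with hn
    · rw [Finset.sum_eq_single ⟨n, hn⟩]
      · simp
      · intro i _ hi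
        rw [if_neg]
        rintro rfl
        exact hi rfl
      · simp
    · symm
      apply Finset.sum_eq_zero
      intro i _
      rw [if_neg]
      rintro rfl
      exact hn i.2
  · rw [mul_assoc, ← mul_assoc w, hw', one_mul]

/-- Uniqueness of the first digits. -/
theorem digit_unique (k : J × Fin e → K) (z' : PowerSeries L)
    (h0 : ∑ s, PowerSeries.C (algebraMap K L (k s)) * bas (e := e) ω s =
      iP K L PowerSeries.X * z') : k = 0 := by
  have hdvd : PowerSeries.X ^ e ∣ ∑ s, PowerSeries.C (algebraMap K L (k s)) * bas (e := e) ω s := by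
    rw [h0]
    have := (dvd_iff h 1 (iP K L PowerSeries.X * z')).1 (by rw [pow_one]; exact dvd_mul_right _ _)
    rwa [mul_one] at this
  rw [PowerSeries.X_pow_dvd_iff] at hdvd
  ext ⟨j₀, i⟩
  have h1 := hdvd i i.2
  rw [Fintype.sum_prod_type, map_sum] at h1
  have h2 : ∀ j : J, PowerSeries.coeff (i : ℕ) (∑ i' : Fin e,
      PowerSeries.C (algebraMap K L (k (j, i'))) * bas (e := e) ω (j, i')) = k (j, i) • ω j := by
    intro j
    rw [map_sum, Finset.sum_eq_single i]
    · rw [bas, PowerSeries.coeff_C_mul, PowerSeries.coeff_C_mul, PowerSeries.coeff_X_pow,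
        if_pos rfl, mul_one, Algebra.smul_def]
    · intro i' _ hi'
      rw [bas, PowerSeries.coeff_C_mul, PowerSeries.coeff_C_mul, PowerSeries.coeff_X_pow,
        if_neg, mul_zero, mul_zero]
      exact fun h => hi' (Fin.ext h.symm)
    · simp
  simp only [h2] at h1
  have h3 := Fintype.linearIndependent_iff.1 ω.linearIndependent (fun j => k (j, i)) h1 j₀
  simpa using h3

/-- Existence of the expansion. -/
theorem exists_expansion (z : PowerSeries L) : ∃ c : J × Fin e → PowerSeries K,
    z = ∑ s, iP K L (c s) * bas (e := e) ω s := by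
  choose k z' hk using exists_step h (e := e) ω
  let cc : PowerSeries L → J × Fin e → PowerSeries K := fun z s =>
    PowerSeries.mk fun n => k (z'^[n] z) s
  have hcc : ∀ z s, cc z s = PowerSeries.C (k z s) + PowerSeries.X * cc (z' z) s := by
    intro z s
    ext n
    rcases n with _ | n
    · simp [cc]
    · simp [cc, PowerSeries.coeff_succ_X_mul, PowerSeries.coeff_succ_C, Function.iterate_succ_apply]
  have key : ∀ (N : ℕ) (z : PowerSeries L),
      iP K L PowerSeries.X ^ N ∣ z - ∑ s, iP K L (cc z s) * bas (e := e) ω s := by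
    intro N
    induction N with
    | zero => intro z; rw [pow_zero]; exact one_dvd _
    | succ N ih =>
      intro z
      have h1 : z - ∑ s, iP K L (cc z s) * bas (e := e) ω s =
          iP K L PowerSeries.X * (z' z - ∑ s, iP K L (cc (z' z) s) * bas (e := e) ω s) := by
        have h2 : ∀ s, iP K L (cc z s) * bas (e := e) ω s =
            PowerSeries.C (algebraMap K L (k z s)) * bas (e := e) ω s +
              iP K L PowerSeries.X * (iP K L (cc (z' z) s) * bas (e := e) ω s) := by
          intro s
          rw [hcc, iP_add h, iP_C h, iP_mul h]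
          ring
        simp only [h2]
        rw [Finset.sum_add_distrib, ← Finset.mul_sum]
        linear_combination hk z
      rw [h1, pow_succ']
      exact mul_dvd_mul_left _ (ih _)
  refine ⟨cc z, ?_⟩
  rw [← sub_eq_zero]
  exact eq_zero_of_forall_dvd h _ fun N => key N z

/-- Uniqueness of the expansion. -/
theorem expansion_unique (c : J × Fin e → PowerSeries K)
    (h0 : ∑ s, iP K L (c s) * bas (e := e) ω s = 0) : c = 0 := by
  have step : ∀ c : J × Fin e → PowerSeries K, ∑ s, iP K L (c s) * bas (e := e) ω s = 0 →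
      ∃ c' : J × Fin e → PowerSeries K, (∀ s, c s = PowerSeries.X * c' s) ∧
        ∑ s, iP K L (c' s) * bas (e := e) ω s = 0 := by
    intro c hc
    let c' : J × Fin e → PowerSeries K := fun s => PowerSeries.mk fun p => PowerSeries.coeff (p + 1) (c s)
    have hcc : ∀ s, c s = PowerSeries.C (PowerSeries.constantCoeff (c s)) + PowerSeries.X * c' s :=
      fun s => by rw [add_comm]; exact PowerSeries.eq_X_mul_shift_add_const (c s)
    have h2 : ∀ s, iP K L (c s) * bas (e := e) ω s =
        PowerSeries.C (algebraMap K L (PowerSeries.constantCoeff (c s))) * bas (e := e) ω s +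
          iP K L PowerSeries.X * (iP K L (c' s) * bas (e := e) ω s) := by
      intro s
      conv_lhs => rw [hcc]
      rw [iP_add h, iP_C h, iP_mul h]
      ring
    simp only [h2] at hc
    rw [Finset.sum_add_distrib, ← Finset.mul_sum] at hc
    have h3 := digit_unique h ω (fun s => PowerSeries.constantCoeff (c s))
      (-∑ s, iP K L (c' s) * bas (e := e) ω s) (by linear_combination hc)
    have h4 : ∀ s, PowerSeries.constantCoeff (c s) = 0 := fun s => congrFun h3 s
    refine ⟨c', fun s => ?_, ?_⟩
    · conv_lhs => rw [hcc, h4, map_zero, zero_add]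
    · simp only [h4, map_zero, zero_mul, Finset.sum_const_zero, zero_add] at hc
      obtain ⟨w, hw, hX⟩ := exists_iP_X h
      rcases mul_eq_zero.1 hc with h5 | h5
      · rw [hX] at h5
        rcases mul_eq_zero.1 h5 with h6 | h6
        · exact absurd h6 (pow_ne_zero _ PowerSeries.X_ne_zero)
        · exact absurd h6 hw.ne_zero
      · exact h5
  have key : ∀ (N : ℕ) (c : J × Fin e → PowerSeries K),
      ∑ s, iP K L (c s) * bas (e := e) ω s = 0 → ∀ s, PowerSeries.X ^ N ∣ c s := by
    intro N
    induction N with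
    | zero => intro c _ s; rw [pow_zero]; exact one_dvd _
    | succ N ih =>
      intro c hc s
      obtain ⟨c', h1, h2⟩ := step c hc
      rw [h1 s, pow_succ']
      exact mul_dvd_mul_left _ (ih c' h2 s)
  funext s
  ext n
  have := key (n + 1) c h0 s
  rw [PowerSeries.X_pow_dvd_iff] at this
  rw [this n (Nat.lt_succ_self n)]
  simp

end Basis

end K722.LocExt
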