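import Mathlib.Algebra.Module.Submodule.LinearMap
import Mathlib.Algebra.Algebra.Hom
import Mathlib.Algebra.BigOperators.GroupWithZero.Action
import Mathlib.LinearAlgebra.BilinearMap
import Mathlib.Tactic.LinearCombination
import Mathlib.Algebra.Algebra.Bilinear

set_option autoImplicit false

/-! Traces of operators of finite rank, computed through "frames", and Tate's independence
argument for commutators with a multiplication operator. -/

namespace K722.Frame

universe u v w

section Basic

variable {K : Type u} [Field K] {B : Type v} [AddCommGroup B] [Module K B] (N : Submodule K B)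

/-- A finite family of vectors and functionals splitting `B / N`. -/
structure IsFrame {S : Type*} [Fintype S] (b : S → B) (c : S → B →ₗ[K] K) : Prop where
  kill : ∀ s, ∀ z ∈ N, c s z = 0
  approx : ∀ z, z - ∑ s, c s z • b s ∈ N

/-- The sum of the diagonal coefficients. -/
def tr {S : Type*} [Fintype S] (b : S → B) (c : S → B →ₗ[K] K) (T : B →ₗ[K] B) : K :=
  ∑ s, c s (T (b s))

variable {N} {S S' : Type*} [Fintype S] [Fintype S'] {b : S → B} {c : S → B →ₗ[K] K}
  {d : S' → B} {c' : S' → B →ₗ[K] K}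

theorem IsFrame.apply_eq (hb : IsFrame N b c) {M : Type*} [AddCommGroup M] [Module K M]
    (T : B →ₗ[K] M) (hT : ∀ z ∈ N, T z = 0) (z : B) : T z = ∑ s, c s z • T (b s) := by
  have h := hT _ (hb.approx z)
  rw [map_sub, sub_eq_zero] at h
  rw [h, map_sum]
  simp

theorem tr_eq (hb : IsFrame N b c) (hd : IsFrame N d c') (T : B →ₗ[K] B)
    (hT : ∀ z ∈ N, T z = 0) : tr b c T = tr d c' T := by
  have h1 : tr d c' T = ∑ t, ∑ s, c s (d t) * c' t (T (b s)) := by
    unfold tr
    refine Finset.sum_congr rfl fun t _ => ?_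
    rw [hb.apply_eq T hT (d t), map_sum]
    simp
  have h2 : tr b c T = ∑ s, ∑ t, c' t (T (b s)) * c s (d t) := by
    unfold tr
    refine Finset.sum_congr rfl fun s _ => ?_
    rw [hd.apply_eq (c s) (hb.kill s) (T (b s))]
    simp
  rw [h1, h2, Finset.sum_comm]
  exact Finset.sum_congr rfl fun t _ => Finset.sum_congr rfl fun s _ => mul_comm _ _

theorem tr_comm (hb : IsFrame N b c) (a g : B →ₗ[K] B) (ha : ∀ z ∈ N, a z = 0)
    (hg : ∀ z ∈ N, g z ∈ N) : tr b c (a ∘ₗ g) = tr b c (g ∘ₗ a) := by
  have h1 : tr b c (a ∘ₗ g) = ∑ s, ∑ t, c t (g (b s)) * c s (a (b t)) := by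
    unfold tr
    refine Finset.sum_congr rfl fun s _ => ?_
    rw [LinearMap.comp_apply, hb.apply_eq a ha (g (b s)), map_sum]
    simp
  have h2 : tr b c (g ∘ₗ a) = ∑ s, ∑ t, c t (a (b s)) * c s (g (b t)) := by
    unfold tr
    refine Finset.sum_congr rfl fun s _ => ?_
    rw [LinearMap.comp_apply]
    have := hb.apply_eq ((c s) ∘ₗ g) (fun z hz => hb.kill s _ (hg z hz)) (a (b s))
    rw [LinearMap.comp_apply] at this
    rw [this]
    simp
  rw [h1, h2, Finset.sum_comm]
  exact Finset.sum_congr rfl fun t _ => Finset.sum_congr rfl fun s _ => mul_comm _ _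

theorem tr_sub (T T' : B →ₗ[K] B) : tr b c (T - T') = tr b c T - tr b c T' := by
  simp [tr, Finset.sum_sub_distrib]

end Basic

section Tate

variable {K : Type u} [Field K] {B : Type v} [CommRing B] [Module K B] [SMulCommClass K B B]
  {E : Type w} [CommRing E] [Module K E] (hE : ∀ (k : K) (x y : E), x * (k • y) = k • (x * y))
  (j : B →+* E) (hj : ∀ (k : K) (b : B), j (k • b) = k • j b) (G : B) (f : E)

/-- The operator `z ↦ π (G f z) - G π (f z)`. -/
def T (π : E →ₗ[K] B) : B →ₗ[K] B where
  toFun z := π (j G * f * j z) - G * π (f * j z)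
  map_add' x y := by
    rw [map_add, mul_add, mul_add, map_add, map_add]
    ring
  map_smul' k x := by
    rw [hj, hE, hE, map_smul, map_smul, mul_smul_comm, ← smul_sub, RingHom.id_apply]

theorem T_apply (π : E →ₗ[K] B) (z : B) :
    T hE j hj G f π z = π (j G * f * j z) - G * π (f * j z) := rfl

/-- Tate's independence of the projection. -/
theorem tr_T_eq (N : Submodule K B) (M : ℕ) (hN : ∀ z, z ∈ N ↔ G ^ M ∣ z)
    (w : B) (hw : j G ^ M * f = j w)
    (π π' : E →ₗ[K] B) (hπ : ∀ z, π (j z) = z) (hπ' : ∀ z, π' (j z) = z)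
    {S S' : Type*} [Fintype S] [Fintype S'] {b : S → B} {c : S → B →ₗ[K] K}
    {d : S' → B} {c' : S' → B →ₗ[K] K} (hb : IsFrame N b c) (hd : IsFrame N d c') :
    tr b c (T hE j hj G f π) = tr d c' (T hE j hj G f π') := by
  have hkill : ∀ (ρ : E →ₗ[K] B), (∀ z, ρ (j z) = z) → ∀ z ∈ N, T hE j hj G f ρ z = 0 := by
    intro ρ hρ z hz
    obtain ⟨y, rfl⟩ := (hN z).1 hz
    rw [T_apply]
    have e1 : f * j (G ^ M * y) = j (w * y) := by
      rw [map_mul, map_mul, map_pow, ← hw]; ring
    have e2 : j G * f * j (G ^ M * y) = j (G * (w * y)) := by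
      rw [mul_assoc, e1, ← map_mul]
    rw [e1, e2, hρ, hρ, sub_self]
  rw [tr_eq hb hd _ (hkill π hπ)]
  -- the difference is a commutator
  let a : B →ₗ[K] B :=
    { toFun := fun z => π (f * j z) - π' (f * j z)
      map_add' := fun x y => by
        rw [map_add, mul_add, map_add, map_add]
        ring
      map_smul' := fun k x => by
        rw [hj, hE, map_smul, map_smul, ← smul_sub, RingHom.id_apply] }
  let g : B →ₗ[K] B :=
    { toFun := fun z => G * z
      map_add' := fun x y => mul_add _ _ _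
      map_smul' := fun k x => by rw [mul_smul_comm, RingHom.id_apply] }
  have ha : ∀ z ∈ N, a z = 0 := by
    intro z hz
    obtain ⟨y, rfl⟩ := (hN z).1 hz
    have e1 : f * j (G ^ M * y) = j (w * y) := by
      rw [map_mul, map_mul, map_pow, ← hw]; ring
    change π (f * j (G ^ M * y)) - π' (f * j (G ^ M * y)) = 0
    rw [e1, hπ, hπ', sub_self]
  have hdiff : T hE j hj G f π - T hE j hj G f π' = a ∘ₗ g - g ∘ₗ a := by
    ext z
    change (π (j G * f * j z) - G * π (f * j z)) - (π' (j G * f * j z) - G * π' (f * j z)) =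
      (π (f * j (G * z)) - π' (f * j (G * z))) - G * (π (f * j z) - π' (f * j z))
    have e3 : f * j (G * z) = j G * f * j z := by rw [map_mul]; ring
    rw [e3]
    ring
  have h := congrArg (tr d c') hdiff
  rw [tr_sub, tr_sub, tr_comm hd a g ha (fun z hz => by
    obtain ⟨y, rfl⟩ := (hN z).1 hz
    rw [hN]
    exact ⟨G * y, by change G * (G ^ M * y) = _; ring⟩), sub_self, sub_eq_zero] at h
  exact h

end Tate

end K722.Frame
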