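import Groth.Agent.LocRes.K722.Ext
import Groth.Agent.LocRes.K722.Frame
import Mathlib.RingTheory.Trace.Basic
import Mathlib.LinearAlgebra.FreeModule.Finite.Basic

set_option autoImplicit false

/-! The basis of `L((X))` over `K((X))`, and the two frames of `L[[X]] / g^M`. -/

namespace K722.LocExt

open LaurentSeries HahnSeries WithZero

universe u v

section Clear

variable {F : Type u} [Field F]

theorem exists_clear (f : F⸨X⸩) : ∃ N₀ : ℕ, ∀ N ≥ N₀, ∃ G : PowerSeries F,
    ((PowerSeries.X : PowerSeries F) : F⸨X⸩) ^ N * f = (G : F⸨X⸩) := by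
  rcases eq_or_ne f 0 with rfl | hf
  · exact ⟨0, fun N _ => ⟨0, by rw [mul_zero, PowerSeries.coe_zero]⟩⟩
  · refine ⟨(-f.order).toNat, fun N hN => ?_⟩
    obtain ⟨G, hG⟩ := K722.ResVal.exists_coe_of_v_le_one
      (((PowerSeries.X : PowerSeries F) : F⸨X⸩) ^ N * f) (by
        rw [map_mul, LaurentSeries.valuation_X_pow, K722.ResVal.v_eq f hf, ← WithZero.exp_add,
          ← WithZero.exp_zero, WithZero.exp_le_exp]
        omega)
    exact ⟨G, hG.symm⟩

theorem X_ne_zero' : ((PowerSeries.X : PowerSeries F) : F⸨X⸩) ≠ 0 := by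
  intro h
  have h2 : (PowerSeries.X : PowerSeries F) = 0 := coe_inj (by rw [h, PowerSeries.coe_zero])
  exact PowerSeries.X_ne_zero h2

end Clear

section Trunc

variable (K : Type u) {L : Type v} [Field K] [Field L] [Algebra K L]

/-- Truncation of a Laurent series in degrees `≥ 0`. -/
noncomputable def tp : L⸨X⸩ →ₗ[K] PowerSeries L where
  toFun f := PowerSeries.mk fun n => f.coeff n
  map_add' f g := by ext n; simp
  map_smul' k f := by ext n; simp

@[simp] theorem coeff_tp (f : L⸨X⸩) (n : ℕ) : PowerSeries.coeff n (tp K f) = f.coeff n := by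
  simp [tp]

theorem tp_coe (F : PowerSeries L) : tp K (F : L⸨X⸩) = F := by
  ext n; rw [coeff_tp, coeff_coe_nat]

theorem smul_eq_C_mul (k : K) (z : L⸨X⸩) : k • z = HahnSeries.C (algebraMap K L k) * z := by
  ext n
  rw [HahnSeries.C_mul_eq_smul, HahnSeries.coeff_smul, HahnSeries.coeff_smul, smul_eq_mul,
    Algebra.smul_def]

theorem hE (k : K) (x y : L⸨X⸩) : x * (k • y) = k • (x * y) := by
  rw [smul_eq_C_mul, smul_eq_C_mul]; ring

theorem hj (k : K) (b : PowerSeries L) :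
    HahnSeries.ofPowerSeries ℤ L (k • b) = k • HahnSeries.ofPowerSeries ℤ L b := by
  ext n
  rw [HahnSeries.coeff_smul]
  change ((k • b : PowerSeries L) : L⸨X⸩).coeff n = k • (b : L⸨X⸩).coeff n
  rw [PowerSeries.coeff_coe, PowerSeries.coeff_coe]
  split_ifs <;> simp

end Trunc

variable {K : Type u} {L : Type v} [Field K] [Field L] [Algebra K L] [Algebra K⸨X⸩ L⸨X⸩]
  {e : ℕ} (h : IsLocExt K L e) {J : Type*} [Fintype J] (ω : Module.Basis J K L)

include h

theorem algebraMap_X : algebraMap K⸨X⸩ L⸨X⸩ ((PowerSeries.X : PowerSeries K) : K⸨X⸩) =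
    ((iP K L PowerSeries.X : PowerSeries L) : L⸨X⸩) := (coe_iP h _).symm

theorem exists_span (z : L⸨X⸩) : ∃ c : J × Fin e → K⸨X⸩,
    ∑ s, c s • ((bas (e := e) ω s : PowerSeries L) : L⸨X⸩) = z := by
  obtain ⟨w, hw, hX⟩ := exists_iP_X h
  obtain ⟨N, hN⟩ := exists_clear z
  obtain ⟨G, hG⟩ := hN (e * N) (by nlinarith [h.pos])
  -- `ι(X)^N * z` is integral
  have h1 : algebraMap K⸨X⸩ L⸨X⸩ (((PowerSeries.X : PowerSeries K) : K⸨X⸩) ^ N) * z =
      ((w ^ N * G : PowerSeries L) : L⸨X⸩) := by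
    rw [map_pow, algebraMap_X h, hX, PowerSeries.coe_mul, PowerSeries.coe_mul, PowerSeries.coe_pow,
      PowerSeries.coe_pow, mul_pow, ← pow_mul, ← hG]
    ring
  obtain ⟨c, hc⟩ := exists_expansion h ω (w ^ N * G)
  refine ⟨fun s => (((PowerSeries.X : PowerSeries K) : K⸨X⸩) ^ N)⁻¹ * (c s : K⸨X⸩), ?_⟩
  have hX0 : (((PowerSeries.X : PowerSeries K) : K⸨X⸩) ^ N) ≠ 0 := pow_ne_zero _ X_ne_zero'
  have hX1 : algebraMap K⸨X⸩ L⸨X⸩ (((PowerSeries.X : PowerSeries K) : K⸨X⸩) ^ N) ≠ 0 := by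
    rw [map_ne_zero]; exact hX0
  apply mul_left_cancel₀ hX1
  rw [h1, hc, Finset.mul_sum, map_sum]
  refine Finset.sum_congr rfl fun s _ => ?_
  rw [Algebra.smul_def, ← mul_assoc, ← map_mul, ← mul_assoc, mul_inv_cancel₀ hX0, one_mul,
    PowerSeries.coe_mul, coe_iP h]

theorem linInd (c : J × Fin e → K⸨X⸩)
    (hc : ∑ s, c s • ((bas (e := e) ω s : PowerSeries L) : L⸨X⸩) = 0) (s : J × Fin e) :
    c s = 0 := by
  choose N₀ hN₀ using fun s => exists_clear (c s)
  choose G hG using fun s => hN₀ s (∑ t, N₀ t)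
    (Finset.single_le_sum (f := N₀) (fun _ _ => Nat.zero_le _) (Finset.mem_univ s))
  set N := ∑ t, N₀ t
  have h1 : ∑ s, iP K L (G s) * bas (e := e) ω s = 0 := by
    apply coe_inj
    rw [PowerSeries.coe_zero]
    have h2 := congrArg (fun z => algebraMap K⸨X⸩ L⸨X⸩
      (((PowerSeries.X : PowerSeries K) : K⸨X⸩) ^ N) * z) hc
    simp only [mul_zero, Finset.mul_sum] at h2
    rw [map_sum, ← h2]
    refine Finset.sum_congr rfl fun t _ => ?_
    rw [PowerSeries.coe_mul, coe_iP h, ← hG, Algebra.smul_def, map_mul, mul_assoc]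
  have h2 := expansion_unique h ω G h1
  have h3 := hG s
  rw [h2, Pi.zero_apply, PowerSeries.coe_zero] at h3
  rcases mul_eq_zero.1 h3 with h4 | h4
  · exact absurd h4 (pow_ne_zero _ X_ne_zero')
  · exact h4

/-- The basis `ω_j X ^ i` of `L((X))` over `K((X))`. -/
noncomputable def bE : Module.Basis (J × Fin e) K⸨X⸩ L⸨X⸩ :=
  Module.Basis.mk (v := fun s => ((bas (e := e) ω s : PowerSeries L) : L⸨X⸩))
    (Fintype.linearIndependent_iff.2 fun c hc s => linInd h ω c hc s)
    (by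
      intro z _
      obtain ⟨c, hc⟩ := exists_span h ω z
      rw [← hc]
      exact Submodule.sum_mem _ fun s _ =>
        Submodule.smul_mem _ _ (Submodule.subset_span ⟨s, rfl⟩))

theorem bE_apply (s : J × Fin e) : bE h ω s = ((bas (e := e) ω s : PowerSeries L) : L⸨X⸩) := by
  simp [bE]

theorem repr_eq (c : J × Fin e → K⸨X⸩) (z : L⸨X⸩)
    (hc : ∑ s, c s • ((bas (e := e) ω s : PowerSeries L) : L⸨X⸩) = z) (s : J × Fin e) :
    (bE h ω).repr z s = c s := by
  rw [← hc]
  simp only [← bE_apply h ω]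
  rw [(bE h ω).repr_sum_self]

theorem repr_expansion (c : J × Fin e → PowerSeries K) (z : PowerSeries L)
    (hc : z = ∑ s, iP K L (c s) * bas (e := e) ω s) (s : J × Fin e) :
    (bE h ω).repr (z : L⸨X⸩) s = (c s : K⸨X⸩) := by
  refine repr_eq h ω (fun s => (c s : K⸨X⸩)) z ?_ s
  rw [hc, map_sum]
  refine Finset.sum_congr rfl fun t _ => ?_
  rw [PowerSeries.coe_mul, coe_iP h, Algebra.smul_def]

/-- The coordinates of an integral element are integral. -/
noncomputable def co (z : PowerSeries L) (s : J × Fin e) : PowerSeries K :=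
  tp K ((bE h ω).repr (z : L⸨X⸩) s)

theorem coe_co (z : PowerSeries L) (s : J × Fin e) :
    ((co h ω z s : PowerSeries K) : K⸨X⸩) = (bE h ω).repr (z : L⸨X⸩) s := by
  obtain ⟨c, hc⟩ := exists_expansion h ω z
  rw [co, repr_expansion h ω c z hc s, tp_coe]

theorem eq_sum_co (z : PowerSeries L) : z = ∑ s, iP K L (co h ω z s) * bas (e := e) ω s := by
  obtain ⟨c, hc⟩ := exists_expansion h ω z
  have : ∀ s, co h ω z s = c s := fun s => by
    rw [co, repr_expansion h ω c z hc s, tp_coe]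
  simp only [this]
  exact hc

theorem finiteDimensional [FiniteDimensional K L] : FiniteDimensional K⸨X⸩ L⸨X⸩ :=
  Module.Finite.of_basis (bE h (Module.finBasis K L))

theorem finrank_eq [FiniteDimensional K L] :
    Module.finrank K⸨X⸩ L⸨X⸩ = e * Module.finrank K L := by
  rw [Module.finrank_eq_card_basis (bE h (Module.finBasis K L))]
  simp [mul_comm]

end K722.LocExt
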