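import Groth.Agent.LocRes.K722.Chain
import Mathlib.RingTheory.Nakayama
import Mathlib.RingTheory.Valuation.Extension

set_option autoImplicit false

/-! A `K((X))`-subspace of `L((X))` containing the constants and stable by a uniformizer is
everything; expansions of complete fields. -/

namespace K722.LocExt

open LaurentSeries HahnSeries WithZero

universe u v w

variable {K : Type u} {L : Type v} [Field K] [Field L] [Algebra K L] [Algebra K⸨X⸩ L⸨X⸩]
  {e : ℕ} (h : IsLocExt K L e)

include h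

theorem approx_mem (M : Submodule K⸨X⸩ L⸨X⸩) (hC : ∀ a : L, HahnSeries.C a ∈ M)
    (ϖ : PowerSeries L) (w : PowerSeries L) (hw : IsUnit w) (hϖ : ϖ = PowerSeries.X * w)
    (hmul : ∀ x ∈ M, (ϖ : L⸨X⸩) * x ∈ M) (n : ℕ) (z : PowerSeries L) :
    ∃ y : PowerSeries L, (y : L⸨X⸩) ∈ M ∧ PowerSeries.X ^ n ∣ z - y := by
  obtain ⟨w', hw'⟩ := hw.exists_right_inv
  induction n generalizing z with
  | zero => exact ⟨0, by rw [PowerSeries.coe_zero]; exact M.zero_mem, by rw [pow_zero]; exact one_dvd _⟩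
  | succ n ih =>
    obtain ⟨y, hy, c, hc⟩ := ih (w' * PowerSeries.mk fun p => PowerSeries.coeff (p + 1) z)
    refine ⟨PowerSeries.C (PowerSeries.constantCoeff z) + ϖ * y, ?_, ⟨w * c, ?_⟩⟩
    · rw [PowerSeries.coe_add, PowerSeries.coe_C, PowerSeries.coe_mul]
      exact M.add_mem (hC _) (hmul _ hy)
    · have h1 := PowerSeries.eq_X_mul_shift_add_const z
      set z₁ : PowerSeries L := PowerSeries.mk fun p => PowerSeries.coeff (p + 1) z
      rw [hϖ]
      linear_combination h1 + PowerSeries.X * w * hc - PowerSeries.X * z₁ * hw'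

theorem eq_top [FiniteDimensional K L] (M : Submodule K⸨X⸩ L⸨X⸩) (hC : ∀ a : L, HahnSeries.C a ∈ M)
    (ϖ : PowerSeries L) (w : PowerSeries L) (hw : IsUnit w) (hϖ : ϖ = PowerSeries.X * w)
    (hmul : ∀ x ∈ M, (ϖ : L⸨X⸩) * x ∈ M) : M = ⊤ := by
  classical
  let ω := Module.finBasis K L
  let algKL : Algebra (PowerSeries K) L⸨X⸩ :=
    ((algebraMap K⸨X⸩ L⸨X⸩).comp (HahnSeries.ofPowerSeries ℤ K)).toAlgebra
  have hsm : ∀ (F : PowerSeries K) (x : L⸨X⸩), F • x = (F : K⸨X⸩) • x := fun F x => by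
    rw [Algebra.smul_def, Algebra.smul_def]; rfl
  let B : Submodule (PowerSeries K) L⸨X⸩ :=
    Submodule.span _ (Set.range fun s => ((bas (e := e) ω s : PowerSeries L) : L⸨X⸩))
  have hBfg : B.FG := Submodule.fg_span (Set.finite_range _)
  have hmemB : ∀ z : PowerSeries L, (z : L⸨X⸩) ∈ B := by
    intro z
    obtain ⟨c, hc⟩ := exists_expansion h ω z
    have h1 : (z : L⸨X⸩) = ∑ s, (c s) • ((bas (e := e) ω s : PowerSeries L) : L⸨X⸩) := by
      rw [hc, map_sum]
      refine Finset.sum_congr rfl fun s _ => ?_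
      rw [PowerSeries.coe_mul, coe_iP h, hsm, Algebra.smul_def]
    rw [h1]
    exact Submodule.sum_mem _ fun s _ => Submodule.smul_mem _ _ (Submodule.subset_span ⟨s, rfl⟩)
  let M' : Submodule (PowerSeries K) L⸨X⸩ :=
    { carrier := M
      add_mem' := fun ha hb => M.add_mem ha hb
      zero_mem' := M.zero_mem
      smul_mem' := fun c x hx => by
        rw [hsm]
        exact M.smul_mem _ hx }
  have hle : B ≤ M' := by
    refine Submodule.le_of_le_smul_of_le_jacobson_bot (I := Ideal.span {PowerSeries.X}) hBfg ?_ ?_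
    · rw [Ideal.span_singleton_le_iff_mem, Ideal.mem_jacobson_bot]
      intro y
      rw [PowerSeries.isUnit_iff_constantCoeff]
      simp
    · rw [Submodule.span_le]
      rintro _ ⟨s, rfl⟩
      obtain ⟨y, hy, c, hc⟩ := approx_mem h M hC ϖ w hw hϖ hmul e (bas (e := e) ω s)
      obtain ⟨v, hv, hX⟩ := exists_iP_X h
      obtain ⟨v', hv'⟩ := hv.exists_right_inv
      have h1 : ((bas (e := e) ω s : PowerSeries L) : L⸨X⸩) =
          (y : L⸨X⸩) + (PowerSeries.X : PowerSeries K) • ((v' * c : PowerSeries L) : L⸨X⸩) := by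
        rw [hsm, Algebra.smul_def, algebraMap_X h, ← PowerSeries.coe_mul, ← PowerSeries.coe_add]
        congr 1
        rw [hX]
        linear_combination hc - PowerSeries.X ^ e * c * hv'
      simp only [SetLike.mem_coe]
      rw [h1]
      refine Submodule.add_mem_sup hy ?_
      exact Submodule.smul_mem_smul (Ideal.mem_span_singleton_self _) (hmemB _)
  rw [eq_top_iff]
  intro z _
  obtain ⟨c, hc⟩ := exists_span h ω z
  rw [← hc]
  exact M.sum_mem fun s _ => M.smul_mem _ (hle (hmemB _))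

end K722.LocExt
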