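import Groth.Agent.LocRes.K722.ExtBasis

set_option autoImplicit false

/-! The local trace formula for residues, following Tate's argument. -/

namespace K722.LocExt

open LaurentSeries HahnSeries WithZero

universe u v

variable {K : Type u} {L : Type v} [Field K] [Field L] [Algebra K L] [Algebra K⸨X⸩ L⸨X⸩]
  {e : ℕ} (h : IsLocExt K L e) {J : Type*} [Fintype J] (ω : Module.Basis J K L)

section Frame1

/-- Frame vectors `ω_j X ^ k`. -/
noncomputable def b1 (m : ℕ) (s : Fin m × J) : PowerSeries L :=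
  PowerSeries.C (ω s.2) * PowerSeries.X ^ (s.1 : ℕ)

/-- Frame functionals. -/
noncomputable def c1 (m : ℕ) (s : Fin m × J) : PowerSeries L →ₗ[K] K where
  toFun z := ω.repr (PowerSeries.coeff (s.1 : ℕ) z) s.2
  map_add' x y := by simp
  map_smul' k x := by simp

omit [Algebra K⸨X⸩ L⸨X⸩] [Fintype J] in
theorem c1_apply (m : ℕ) (s : Fin m × J) (z : PowerSeries L) :
    c1 ω m s z = ω.repr (PowerSeries.coeff (s.1 : ℕ) z) s.2 := rfl

include h

/-- The submodule `g^M L[[X]]`. -/
def Nsub (_ : IsLocExt K L e) (M : ℕ) : Submodule K (PowerSeries L) where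
  carrier := {z | iP K L PowerSeries.X ^ M ∣ z}
  add_mem' ha hb := dvd_add ha hb
  zero_mem' := dvd_zero _
  smul_mem' c z hz := by
    obtain ⟨y, rfl⟩ := hz
    exact ⟨c • y, by rw [mul_smul_comm]⟩

theorem mem_Nsub (M : ℕ) (z : PowerSeries L) : z ∈ Nsub h M ↔ iP K L PowerSeries.X ^ M ∣ z :=
  Iff.rfl

theorem frame1 (M : ℕ) : K722.Frame.IsFrame (Nsub h M) (b1 ω (e * M)) (c1 ω (e * M)) where
  kill s z hz := by
    rw [mem_Nsub, dvd_iff h, PowerSeries.X_pow_dvd_iff] at hz
    rw [c1_apply, hz _ s.1.2]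
    simp
  approx z := by
    rw [mem_Nsub, dvd_iff h, PowerSeries.X_pow_dvd_iff]
    intro k hk
    rw [map_sub, Fintype.sum_prod_type, map_sum, Finset.sum_eq_single ⟨k, hk⟩]
    · rw [map_sum]
      have h2 : ∀ j : J, PowerSeries.coeff k
          (c1 ω (e * M) (⟨k, hk⟩, j) z • b1 ω (e * M) (⟨k, hk⟩, j)) =
          (ω.repr (PowerSeries.coeff k z) j) • ω j := by
        intro j
        rw [b1, PowerSeries.coeff_smul, PowerSeries.coeff_C_mul, PowerSeries.coeff_X_pow,
          if_pos rfl, mul_one, c1_apply]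
      simp only [h2]
      rw [ω.sum_repr, sub_self]
    · intro i _ hi
      rw [map_sum]
      apply Finset.sum_eq_zero
      intro j _
      rw [b1, PowerSeries.coeff_smul, PowerSeries.coeff_C_mul, PowerSeries.coeff_X_pow,
        if_neg, mul_zero, smul_zero]
      exact fun h => hi (Fin.ext h.symm)
    · simp

end Frame1

section Frame2

include h

theorem repr_smulK (k : K) (z : L⸨X⸩) (s : J × Fin e) :
    (bE h ω).repr (k • z) s = k • (bE h ω).repr z s := by
  have : k • z = (HahnSeries.C k : K⸨X⸩) • z := by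
    rw [smul_eq_C_mul, Algebra.smul_def, h.map_C]
  rw [this, map_smul, Finsupp.smul_apply, smul_eq_mul, HahnSeries.C_mul_eq_smul]

/-- The coordinates as a linear map. -/
noncomputable def coL (s : J × Fin e) : PowerSeries L →ₗ[K] PowerSeries K where
  toFun z := co h ω z s
  map_add' x y := by
    rw [co, PowerSeries.coe_add, map_add, Finsupp.add_apply, map_add]; rfl
  map_smul' k x := by
    have : ((k • x : PowerSeries L) : L⸨X⸩) = k • (x : L⸨X⸩) := hj K k x
    rw [co, this, repr_smulK, map_smul]; rfl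

theorem coL_apply (s : J × Fin e) (z : PowerSeries L) : coL h ω s z = co h ω z s := rfl

/-- The frame vectors `g^n b_s`. -/
noncomputable def b2 (_ : IsLocExt K L e) (ω : Module.Basis J K L) (M : ℕ)
    (s : Fin M × (J × Fin e)) : PowerSeries L :=
  iP K L PowerSeries.X ^ (s.1 : ℕ) * bas (e := e) ω s.2

/-- The frame functionals. -/
noncomputable def c2 (M : ℕ) (s : Fin M × (J × Fin e)) : PowerSeries L →ₗ[K] K where
  toFun z := PowerSeries.coeff (s.1 : ℕ) (coL h ω s.2 z)
  map_add' x y := by simp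
  map_smul' k x := by simp

theorem c2_apply (M : ℕ) (s : Fin M × (J × Fin e)) (z : PowerSeries L) :
    c2 h ω M s z = PowerSeries.coeff (s.1 : ℕ) (co h ω z s.2) := rfl

theorem co_pow_mul (M : ℕ) (y : PowerSeries L) (s : J × Fin e) :
    co h ω (iP K L PowerSeries.X ^ M * y) s = PowerSeries.X ^ M * co h ω y s := by
  apply coe_inj
  rw [coe_co, PowerSeries.coe_mul, PowerSeries.coe_mul, coe_co, ← iP_pow h, coe_iP h,
    ← Algebra.smul_def, map_smul, Finsupp.smul_apply, smul_eq_mul]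

theorem iP_sub_dvd (M : ℕ) (F : PowerSeries K) :
    iP K L PowerSeries.X ^ M ∣ iP K L F - ∑ n ∈ Finset.range M,
      PowerSeries.C (algebraMap K L (PowerSeries.coeff n F)) * iP K L PowerSeries.X ^ n := by
  induction M generalizing F with
  | zero => rw [pow_zero]; exact one_dvd _
  | succ M ih =>
    obtain ⟨w, hw⟩ := ih (PowerSeries.mk fun p => PowerSeries.coeff (p + 1) F)
    refine ⟨w, ?_⟩
    rw [Finset.sum_range_succ']
    have h1 : iP K L F = PowerSeries.C (algebraMap K L (PowerSeries.constantCoeff F)) +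
        iP K L PowerSeries.X * iP K L (PowerSeries.mk fun p => PowerSeries.coeff (p + 1) F) := by
      conv_lhs => rw [PowerSeries.eq_X_mul_shift_add_const F]
      rw [iP_add h, iP_mul h, iP_C h, add_comm]
    simp only [PowerSeries.coeff_mk] at hw
    have h2 : ∑ n ∈ Finset.range M, PowerSeries.C (algebraMap K L (PowerSeries.coeff (n + 1) F)) *
        iP K L PowerSeries.X ^ (n + 1) = iP K L PowerSeries.X * ∑ n ∈ Finset.range M,
        PowerSeries.C (algebraMap K L (PowerSeries.coeff (n + 1) F)) * iP K L PowerSeries.X ^ n := by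
      rw [Finset.mul_sum]
      exact Finset.sum_congr rfl fun n _ => by ring
    rw [h1, h2, PowerSeries.coeff_zero_eq_constantCoeff_apply]
    linear_combination (iP K L PowerSeries.X) * hw

theorem frame2 (M : ℕ) : K722.Frame.IsFrame (Nsub h M) (b2 h ω M) (c2 h ω M) where
  kill s z hz := by
    obtain ⟨y, rfl⟩ := (mem_Nsub h M z).1 hz
    rw [c2_apply, co_pow_mul, PowerSeries.coeff_X_pow_mul', if_neg (by have := s.1.2; omega)]
  approx z := by
    rw [mem_Nsub]
    have h1 : z - ∑ s, c2 h ω M s z • b2 h ω M s = ∑ s, (iP K L (co h ω z s) -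
        ∑ n ∈ Finset.range M, PowerSeries.C (algebraMap K L (PowerSeries.coeff n (co h ω z s))) *
          iP K L PowerSeries.X ^ n) * bas (e := e) ω s := by
      simp only [sub_mul]
      rw [Finset.sum_sub_distrib, ← eq_sum_co h ω z, Fintype.sum_prod_type_right]
      congr 1
      refine Finset.sum_congr rfl fun s _ => ?_
      rw [Finset.sum_range (fun n => PowerSeries.C (algebraMap K L (PowerSeries.coeff n (co h ω z s))) *
          iP K L PowerSeries.X ^ n), Finset.sum_mul]
      refine Finset.sum_congr rfl fun n _ => ?_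
      rw [c2_apply, b2, mul_assoc]
      ext m
      rw [PowerSeries.coeff_smul, PowerSeries.coeff_C_mul, Algebra.smul_def]
    rw [h1]
    exact Finset.dvd_sum fun s _ => (iP_sub_dvd h M _).mul_right _

end Frame2

section Proj

include h

/-- The projection `L((X)) → L[[X]]` defined through the basis of `L((X))` over `K((X))`. -/
noncomputable def pX : L⸨X⸩ →ₗ[K] PowerSeries L where
  toFun z := ∑ s, iP K L (tp K ((bE h ω).repr z s)) * bas (e := e) ω s
  map_add' x y := by
    rw [← Finset.sum_add_distrib]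
    refine Finset.sum_congr rfl fun s _ => ?_
    rw [map_add, Finsupp.add_apply, map_add, iP_add h, add_mul]
  map_smul' k x := by
    rw [Finset.smul_sum]
    refine Finset.sum_congr rfl fun s _ => ?_
    have h2 : ∀ F : PowerSeries K, iP K L (k • F) = k • iP K L F := by
      intro F
      have h3 : k • F = PowerSeries.C k * F := by ext n; simp
      rw [h3, iP_mul h, iP_C h]
      ext n
      rw [PowerSeries.coeff_C_mul, PowerSeries.coeff_smul, Algebra.smul_def]
    rw [repr_smulK, map_smul, h2, smul_mul_assoc, RingHom.id_apply]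

theorem pX_apply (z : L⸨X⸩) :
    pX h ω z = ∑ s, iP K L (tp K ((bE h ω).repr z s)) * bas (e := e) ω s := rfl

theorem pX_coe (z : PowerSeries L) : pX h ω (z : L⸨X⸩) = z := by
  rw [pX_apply]
  conv_rhs => rw [eq_sum_co h ω z]
  rfl

end Proj

section Compute

omit [Algebra K⸨X⸩ L⸨X⸩] in
theorem trace_eq_sum (a : L) : Algebra.trace K L a = ∑ j, ω.repr (ω j * a) j := by
  classical
  rw [Algebra.trace_eq_matrix_trace ω, Matrix.trace]
  refine Finset.sum_congr rfl fun j _ => ?_
  rw [Matrix.diag_apply, Algebra.leftMulMatrix_eq_repr_mul, mul_comm]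

theorem sum_aux {R : Type*} [CommRing R] (φ : ℕ → R) (m : ℕ) :
    ∑ k ∈ Finset.range m, (∑ a ∈ Finset.range (m + 1), φ a - ∑ a ∈ Finset.range (k + 1), φ a) =
      ∑ a ∈ Finset.range (m + 1), (a : R) * φ a := by
  induction m with
  | zero => simp
  | succ m ih =>
    rw [Finset.sum_range_succ (fun a => (a : R) * φ a) (m + 1), ← ih, Finset.sum_sub_distrib,
      Finset.sum_sub_distrib,
      Finset.sum_const, Finset.sum_const, Finset.card_range, Finset.card_range,
      Finset.sum_range_succ (fun k => ∑ a ∈ Finset.range (k + 1), φ a) m,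
      Finset.sum_range_succ φ (m + 1)]
    simp only [nsmul_eq_mul]
    push_cast
    ring

omit [Algebra K⸨X⸩ L⸨X⸩] in
/-- The coefficient computation of Tate's trace for the truncation. -/
theorem coeff_T (G : PowerSeries L) (f : L⸨X⸩) (m : ℕ) (F : PowerSeries L)
    (hF : ((PowerSeries.X : PowerSeries L) : L⸨X⸩) ^ m * f = (F : L⸨X⸩)) (k : ℕ) :
    PowerSeries.coeff k (tp K ((G : L⸨X⸩) * f * ((PowerSeries.X : PowerSeries L) : L⸨X⸩) ^ k) -
      G * tp K (f * ((PowerSeries.X : PowerSeries L) : L⸨X⸩) ^ k)) =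
      ∑ a ∈ Finset.range (m + 1), PowerSeries.coeff a G * f.coeff (-(a : ℤ)) -
        ∑ a ∈ Finset.range (k + 1), PowerSeries.coeff a G * f.coeff (-(a : ℤ)) := by
  have hX : ∀ n : ℕ, ((PowerSeries.X : PowerSeries L) : L⸨X⸩) ^ n = single (n : ℤ) 1 := by
    intro n
    rw [← PowerSeries.coe_pow, HahnSeries.ofPowerSeries_X_pow]
  have hfF : ∀ a : ℤ, f.coeff a = (F : L⸨X⸩).coeff (m + a) := by
    intro a
    rw [← hF, hX, HahnSeries.coeff_single_mul, one_mul]
    congr 1
    ring
  rw [map_sub, coeff_tp]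
  congr 1
  · have h1 : ((G : L⸨X⸩) * f * ((PowerSeries.X : PowerSeries L) : L⸨X⸩) ^ k).coeff (k : ℤ) =
        ((G * F : PowerSeries L) : L⸨X⸩).coeff (m : ℤ) := by
      rw [PowerSeries.coe_mul, ← hF, hX, hX, mul_comm, HahnSeries.coeff_single_mul, mul_left_comm,
        HahnSeries.coeff_single_mul]
      simp
    rw [h1, coeff_coe_nat, PowerSeries.coeff_mul, Finset.Nat.sum_antidiagonal_eq_sum_range_succ_mk]
    refine Finset.sum_congr rfl fun a ha => ?_
    rw [hfF]
    have : (m : ℤ) + -(a : ℤ) = ((m - a : ℕ) : ℤ) := by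
      have := Finset.mem_range.1 ha
      omega
    rw [this, coeff_coe_nat]
  · rw [PowerSeries.coeff_mul, Finset.Nat.sum_antidiagonal_eq_sum_range_succ_mk]
    refine Finset.sum_congr rfl fun a ha => ?_
    rw [coeff_tp, hX, mul_comm f, HahnSeries.coeff_single_mul, one_mul]
    congr 2
    have := Finset.mem_range.1 ha
    push_cast [Nat.cast_sub (by omega : a ≤ k)]
    ring

omit [Algebra K⸨X⸩ L⸨X⸩] [Algebra K L] [Field K] in
theorem res_mul_D (G : PowerSeries L) (f : L⸨X⸩) (m : ℕ) (hm : 0 < m) (F : PowerSeries L)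
    (hF : ((PowerSeries.X : PowerSeries L) : L⸨X⸩) ^ m * f = (F : L⸨X⸩)) :
    LocRes.res L (f * LocRes.D L (G : L⸨X⸩)) =
      ∑ a ∈ Finset.range (m + 1), (a : L) * (PowerSeries.coeff a G * f.coeff (-(a : ℤ))) := by
  have hX : ∀ n : ℕ, ((PowerSeries.X : PowerSeries L) : L⸨X⸩) ^ n = single (n : ℤ) 1 := by
    intro n
    rw [← PowerSeries.coe_pow, HahnSeries.ofPowerSeries_X_pow]
  have hfF : ∀ a : ℤ, f.coeff a = (F : L⸨X⸩).coeff (m + a) := by
    intro a
    rw [← hF, hX, HahnSeries.coeff_single_mul, one_mul]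
    congr 1
    ring
  obtain ⟨m, rfl⟩ : ∃ m', m = m' + 1 := ⟨m - 1, by omega⟩
  have h1 : LocRes.res L (f * LocRes.D L (G : L⸨X⸩)) =
      ((PowerSeries.derivative L G * F : PowerSeries L) : L⸨X⸩).coeff (m : ℤ) := by
    rw [PowerSeries.coe_mul, ← hF, hX, LocRes.res_apply, LocRes.D_coe, mul_left_comm,
      HahnSeries.coeff_single_mul, one_mul, mul_comm]
    congr 1
    push_cast
    ring
  rw [h1, coeff_coe_nat, PowerSeries.coeff_mul, Finset.Nat.sum_antidiagonal_eq_sum_range_succ_mk,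
    Finset.sum_range_succ' _ (m + 1)]
  simp only [Nat.cast_zero, zero_mul, add_zero]
  refine Finset.sum_congr rfl fun a ha => ?_
  rw [PowerSeries.coeff_derivative, hfF]
  have : ((m + 1 : ℕ) : ℤ) + -((a + 1 : ℕ) : ℤ) = ((m - a : ℕ) : ℤ) := by
    have := Finset.mem_range.1 ha
    omega
  rw [this, coeff_coe_nat]
  push_cast
  ring

omit [Algebra K⸨X⸩ L⸨X⸩] in
theorem tp_C_mul (a : L) (z : L⸨X⸩) : tp K (HahnSeries.C a * z) = PowerSeries.C a * tp K z := by
  ext n
  rw [coeff_tp, PowerSeries.coeff_C_mul, coeff_tp, HahnSeries.C_mul_eq_smul,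
    HahnSeries.coeff_smul, smul_eq_mul]

theorem tp_X_mul (z : K⸨X⸩) :
    tp K (((PowerSeries.X : PowerSeries K) : K⸨X⸩) * z) =
      PowerSeries.C (z.coeff (-1)) + PowerSeries.X * tp K z := by
  ext n
  rw [coeff_tp, PowerSeries.coe_X, HahnSeries.coeff_single_mul, one_mul, map_add]
  rcases n with _ | n
  · simp
  · rw [PowerSeries.coeff_succ_X_mul, coeff_tp, PowerSeries.coeff_C, if_neg (Nat.succ_ne_zero n),
      zero_add]
    congr 1
    push_cast
    ring

end Compute

section Main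

/-- Tate's operator for Laurent series. -/
noncomputable def TT (G : PowerSeries L) (f : L⸨X⸩) (π : L⸨X⸩ →ₗ[K] PowerSeries L) :
    PowerSeries L →ₗ[K] PowerSeries L :=
  K722.Frame.T (K := K) (B := PowerSeries L) (E := L⸨X⸩) (hE K) (HahnSeries.ofPowerSeries ℤ L)
    (hj K) G f π

omit [Algebra K⸨X⸩ L⸨X⸩] in
theorem TT_apply (G : PowerSeries L) (f : L⸨X⸩) (π : L⸨X⸩ →ₗ[K] PowerSeries L)
    (z : PowerSeries L) :
    TT G f π z = π ((G : L⸨X⸩) * f * (z : L⸨X⸩)) - G * π (f * (z : L⸨X⸩)) := rfl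

include h

theorem tr1 (f : L⸨X⸩) (M : ℕ) (hM : 0 < M) (F : PowerSeries L)
    (hF : ((PowerSeries.X : PowerSeries L) : L⸨X⸩) ^ (e * M) * f = (F : L⸨X⸩)) :
    K722.Frame.tr (b1 ω (e * M)) (c1 ω (e * M)) (TT (iP K L PowerSeries.X) f (tp K)) =
    Algebra.trace K L (LocRes.res L (f * LocRes.D L ((iP K L PowerSeries.X : PowerSeries L) : L⸨X⸩))) := by
  set G := iP K L PowerSeries.X with hG
  rw [res_mul_D G f (e * M) (Nat.mul_pos h.pos hM) F hF, ← sum_aux, K722.Frame.tr,
    Fintype.sum_prod_type, Finset.sum_range, map_sum]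
  refine Finset.sum_congr rfl fun k _ => ?_
  rw [← coeff_T (K := K) G f (e * M) F hF k, trace_eq_sum ω]
  refine Finset.sum_congr rfl fun j _ => ?_
  rw [c1_apply, TT_apply, b1]
  congr 2
  rw [← PowerSeries.coeff_C_mul, mul_sub, ← tp_C_mul]
  congr 2
  · congr 1
    rw [PowerSeries.coe_mul, PowerSeries.coe_C, PowerSeries.coe_pow]
    ring
  · have h1 : f * (HahnSeries.ofPowerSeries ℤ L) (PowerSeries.C (ω j) * PowerSeries.X ^ (k : ℕ)) =
        HahnSeries.C (ω j) * (f * ((PowerSeries.X : PowerSeries L) : L⸨X⸩) ^ (k : ℕ)) := by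
      rw [PowerSeries.coe_mul, PowerSeries.coe_C, PowerSeries.coe_pow]
      ring
    rw [h1, tp_C_mul]
    ring

theorem tr2 (f : L⸨X⸩) (M : ℕ) (hM : 0 < M) :
    K722.Frame.tr (b2 h ω M) (c2 h ω M) (TT (iP K L PowerSeries.X) f (pX h ω)) =
    LocRes.res K (Algebra.trace K⸨X⸩ L⸨X⸩ f) := by
  classical
  set G := iP K L PowerSeries.X with hG
  have hT : ∀ (n : Fin M) (s : J × Fin e), TT G f (pX h ω) (b2 h ω M (n, s)) = ∑ t, iP K L (PowerSeries.C
        (((bE h ω).repr (f * ((bas (e := e) ω s : PowerSeries L) : L⸨X⸩)) t).coeff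
          (-1 - (n : ℤ)))) * bas (e := e) ω t := by
    intro n s
    rw [TT_apply, b2]
    set y : L⸨X⸩ := f * ((bas (e := e) ω s : PowerSeries L) : L⸨X⸩) with hy
    have e1 : f * (HahnSeries.ofPowerSeries ℤ L) (iP K L PowerSeries.X ^ (n : ℕ) * bas ω s) =
        (((PowerSeries.X : PowerSeries K) : K⸨X⸩) ^ (n : ℕ)) • y := by
      rw [Algebra.smul_def, map_pow, algebraMap_X h, PowerSeries.coe_mul, PowerSeries.coe_pow, hy]
      ring
    have e2 : (HahnSeries.ofPowerSeries ℤ L) G * f *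
        (HahnSeries.ofPowerSeries ℤ L) (iP K L PowerSeries.X ^ (n : ℕ) * bas ω s) =
        ((PowerSeries.X : PowerSeries K) : K⸨X⸩) •
          ((((PowerSeries.X : PowerSeries K) : K⸨X⸩) ^ (n : ℕ)) • y) := by
      rw [mul_assoc, e1, Algebra.smul_def ((PowerSeries.X : PowerSeries K) : K⸨X⸩), algebraMap_X h]
    rw [e1, e2, pX_apply, pX_apply, Finset.mul_sum, ← Finset.sum_sub_distrib]
    refine Finset.sum_congr rfl fun t _ => ?_
    rw [map_smul, Finsupp.smul_apply, smul_eq_mul, tp_X_mul, iP_add h, iP_mul h, ← hG]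
    have e3 : ((bE h ω).repr ((((PowerSeries.X : PowerSeries K) : K⸨X⸩) ^ (n : ℕ)) • y) t).coeff (-1)
        = ((bE h ω).repr y t).coeff (-1 - (n : ℤ)) := by
      rw [map_smul, Finsupp.smul_apply, smul_eq_mul, ← PowerSeries.coe_pow,
        HahnSeries.ofPowerSeries_X_pow, HahnSeries.coeff_single_mul, one_mul]
    rw [e3]
    ring
  have hc : ∀ (n : Fin M) (s : J × Fin e), c2 h ω M (n, s) (TT G f (pX h ω) (b2 h ω M (n, s))) =
      if (n : ℕ) = 0 then
        ((bE h ω).repr (f * ((bas (e := e) ω s : PowerSeries L) : L⸨X⸩)) s).coeff (-1) else 0 := by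
    intro n s
    rw [hT, c2_apply, co, repr_expansion h ω (fun t => PowerSeries.C
        (((bE h ω).repr (f * ((bas (e := e) ω s : PowerSeries L) : L⸨X⸩)) t).coeff
          (-1 - (n : ℤ)))) _ rfl s, tp_coe, PowerSeries.coeff_C]
    split_ifs with h0
    · rw [h0]; simp
    · rfl
  rw [K722.Frame.tr, Fintype.sum_prod_type]
  simp only [hc]
  rw [Finset.sum_eq_single ⟨0, hM⟩]
  · simp only [if_true]
    rw [Algebra.trace_eq_matrix_trace (bE h ω), Matrix.trace, map_sum]
    refine Finset.sum_congr rfl fun s _ => ?_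
    rw [Matrix.diag_apply, Algebra.leftMulMatrix_eq_repr_mul, bE_apply, LocRes.res_apply]
  · intro n _ hn
    have h0 : ¬ ((n : ℕ) = 0) := fun h0 => hn (Fin.ext h0)
    simp only [h0, if_false, Finset.sum_const_zero]
  · simp

/-- **The local trace formula** for residues, in the variable `X`. -/
theorem trace_res [FiniteDimensional K L] (f : L⸨X⸩) :
    Algebra.trace K L (LocRes.res L (f * LocRes.D L
      (algebraMap K⸨X⸩ L⸨X⸩ ((PowerSeries.X : PowerSeries K) : K⸨X⸩)))) =
    LocRes.res K (Algebra.trace K⸨X⸩ L⸨X⸩ f) := by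
  let ω := Module.finBasis K L
  obtain ⟨w, hw, hX⟩ := exists_iP_X h
  obtain ⟨N, hN⟩ := exists_clear f
  obtain ⟨F, hF⟩ := hN (e * (N + 1)) (by nlinarith [h.pos])
  rw [algebraMap_X h, ← tr1 h ω f (N + 1) (Nat.succ_pos N) F hF,
    ← tr2 h ω f (N + 1) (Nat.succ_pos N)]
  refine K722.Frame.tr_T_eq (K := K) (B := PowerSeries L) (E := L⸨X⸩) (hE K)
    (HahnSeries.ofPowerSeries ℤ L) (hj K) (iP K L PowerSeries.X) f (Nsub h (N + 1)) (N + 1)
    (mem_Nsub h (N + 1)) (w ^ (N + 1) * F) ?_ (tp K) (pX h ω) (fun z => tp_coe K z) (pX_coe h ω)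
    (frame1 h ω (N + 1)) (frame2 h ω (N + 1))
  rw [PowerSeries.coe_mul, ← hF, hX, PowerSeries.coe_mul, PowerSeries.coe_pow, PowerSeries.coe_pow,
    mul_pow, ← pow_mul]
  ring

end Main

end K722.LocExt
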