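import Groth.Agent.LocRes.K722.Basic

set_option autoImplicit false

/-! The `X`-adic valuation of a Laurent series in terms of its order. -/

namespace K722.ResVal

open LaurentSeries HahnSeries WithZero

universe w

variable {F : Type w} [Field F]

theorem le_exp_neg_iff (f : F⸨X⸩) (hf : f ≠ 0) (D : ℤ) :
    Valued.v f ≤ (exp (-D) : WithZero (Multiplicative ℤ)) ↔ D ≤ f.order := by
  rw [LaurentSeries.valuation_le_iff_coeff_lt_eq_zero]
  constructor
  · intro h
    by_contra hlt
    push Not at hlt
    exact HahnSeries.coeff_order_eq_zero.not.2 hf (h _ hlt)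
  · intro h n hn
    exact HahnSeries.coeff_eq_zero_of_lt_order (by omega)

theorem v_eq (f : F⸨X⸩) (hf : f ≠ 0) :
    Valued.v f = (exp (-f.order) : WithZero (Multiplicative ℤ)) := by
  apply le_antisymm ((le_exp_neg_iff f hf _).2 le_rfl)
  by_contra hlt
  push Not at hlt
  have h0 : (Valued.v f : WithZero (Multiplicative ℤ)) ≠ 0 := (Valuation.ne_zero_iff _).2 hf
  have h1 : Valued.v f = (exp (log (Valued.v f)) : WithZero (Multiplicative ℤ)) := (exp_log h0).symm
  rw [h1] at hlt
  rw [WithZero.exp_lt_exp] at hlt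
  have h2 : Valued.v f ≤ (exp (-(-log (Valued.v f))) : WithZero (Multiplicative ℤ)) := by
    rw [neg_neg, ← h1]
  have h3 := (le_exp_neg_iff f hf _).1 h2
  omega

theorem log_v (f : F⸨X⸩) (hf : f ≠ 0) : WithZero.log (Valued.v f) = - f.order := by
  rw [v_eq f hf, WithZero.log_exp]

/-- Integral Laurent series are power series. -/
theorem exists_coe_of_v_le_one (f : F⸨X⸩) (hf : Valued.v f ≤ (1 : WithZero (Multiplicative ℤ))) :
    ∃ G : PowerSeries F, (G : F⸨X⸩) = f :=
  (LaurentSeries.val_le_one_iff_eq_coe F f).1 hf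

end K722.ResVal
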